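import Mathlib.Algebra.Homology.DerivedCategory.Ext.EnoughInjectives
import Mathlib.Algebra.Homology.DerivedCategory.Ext.ExactSequences
import Mathlib.CategoryTheory.Abelian.Exact
import Mathlib.GroupTheory.QuotientGroup.Basic

/-!
Comparison of `Ext` along an exact functor sending injectives to acyclic objects.
-/

set_option autoImplicit false

open CategoryTheory Limits Abelian

universe w w' v v' u u'

namespace Groth.Agent.Lead.SiteCoh

theorem nonempty_addEquiv_of_ker_eq {A B B' : Type*} [AddCommGroup A] [AddCommGroup B] [AddCommGroup B']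
    (f : A →+ B) (g : A →+ B') (hf : Function.Surjective f) (hg : Function.Surjective g) (h : f.ker = g.ker) :
    Nonempty (B ≃+ B') :=
  ⟨(QuotientAddGroup.quotientKerEquivOfSurjective f hf).symm.trans
    ((QuotientAddGroup.quotientAddEquivOfEq h).trans (QuotientAddGroup.quotientKerEquivOfSurjective g hg))⟩

variable {A : Type u} [Category.{v} A] [Abelian A] [HasExt.{w} A] [EnoughInjectives A]
  {B : Type u'} [Category.{v'} B] [Abelian B] [HasExt.{w'} B]
  (G : A ⥤ B) [G.Additive] [PreservesFiniteLimits G] [PreservesFiniteColimits G]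
  {X : A} {X' : B} (a : ∀ N : A, (X ⟶ N) ≃+ (X' ⟶ G.obj N))
  (ha : ∀ (N N' : A) (φ : N ⟶ N') (f : X ⟶ N), a N' (f ≫ φ) = a N f ≫ G.map φ)
  (hacyc : ∀ (I : A) [Injective I] (q : ℕ), Subsingleton (Ext X' (G.obj I) (q + 1)))

include ha hacyc in
/-- `Ext` of `A` out of `X` agrees with `Ext` of `B` out of `X'` -/
theorem nonempty_ext_addEquiv : ∀ (n : ℕ) (M : A), Nonempty (Ext X M n ≃+ Ext X' (G.obj M) n) := by
  intro n
  induction n with
  | zero => exact fun M => ⟨Ext.addEquiv₀.trans ((a M).trans Ext.addEquiv₀.symm)⟩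
  | succ n ih =>
    intro M
    let S : ShortComplex A := ShortComplex.mk (Injective.ι M) (cokernel.π (Injective.ι M)) (cokernel.condition _)
    have hS : S.ShortExact :=
      ShortComplex.ShortExact.mk' (ShortComplex.exact_of_g_is_cokernel _ (cokernelIsCokernel _))
        (inferInstance : Mono (Injective.ι M)) (inferInstance : Epi (cokernel.π (Injective.ι M)))
    have hT : (S.map G).ShortExact := hS.map_of_exact G
    haveI : Injective S.X₂ := (inferInstance : Injective (Injective.under M))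
    let δ₁ : Ext X S.X₃ n →+ Ext X S.X₁ (n + 1) := hS.extClass.postcomp X rfl
    let δ₂ : Ext X' (G.obj S.X₃) n →+ Ext X' (G.obj S.X₁) (n + 1) := hT.extClass.postcomp X' rfl
    have s₁ : Function.Surjective δ₁ := fun z => by
      obtain ⟨w, hw⟩ := Ext.covariant_sequence_exact₁ X hS z (Ext.eq_zero_of_injective _) (n₀ := n) rfl
      exact ⟨w, hw⟩
    have s₂ : Function.Surjective δ₂ := fun z => by
      haveI := hacyc S.X₂ n
      obtain ⟨w, hw⟩ := Ext.covariant_sequence_exact₁ X' hT z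
        (Subsingleton.elim (α := Ext X' (G.obj S.X₂) (n + 1)) _ _) (n₀ := n) rfl
      exact ⟨w, hw⟩
    cases n with
    | zero =>
      let e : Ext X S.X₃ 0 ≃+ Ext X' (G.obj S.X₃) 0 := Ext.addEquiv₀.trans ((a _).trans Ext.addEquiv₀.symm)
      refine nonempty_addEquiv_of_ker_eq δ₁ (δ₂.comp e.toAddMonoidHom) s₁ (s₂.comp e.surjective) ?_
      ext z
      obtain ⟨f, rfl⟩ := Ext.homEquiv₀.symm.surjective z
      have he : e (Ext.mk₀ f) = Ext.mk₀ (a _ f) := by
        show Ext.addEquiv₀.symm (a _ (Ext.addEquiv₀ (Ext.addEquiv₀.symm f))) = _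
        rw [AddEquiv.apply_symm_apply]; rfl
      show (Ext.mk₀ f).comp hS.extClass rfl = 0 ↔ (e (Ext.mk₀ f)).comp hT.extClass rfl = 0
      rw [he]
      constructor
      · intro h
        obtain ⟨x₂, hx₂⟩ := Ext.covariant_sequence_exact₃ X hS (Ext.mk₀ f) rfl h
        obtain ⟨t, rfl⟩ := Ext.homEquiv₀.symm.surjective x₂
        obtain rfl : t ≫ S.g = f := (Ext.mk₀_bijective _ _).1 (by rw [← Ext.mk₀_comp_mk₀]; exact hx₂)
        rw [ha, ← Ext.mk₀_comp_mk₀_assoc]
        show (Ext.mk₀ (a _ t)).comp ((Ext.mk₀ (S.map G).g).comp hT.extClass _) _ = 0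
        exact (congrArg (fun z => (Ext.mk₀ (a S.X₂ t)).comp z (zero_add 1)) hT.comp_extClass).trans (Ext.comp_zero ..)
      · intro h
        obtain ⟨x₂, hx₂⟩ := Ext.covariant_sequence_exact₃ X' hT (Ext.mk₀ (a _ f)) rfl h
        obtain ⟨t, rfl⟩ := Ext.homEquiv₀.symm.surjective x₂
        have ht : t ≫ G.map S.g = a _ f := (Ext.mk₀_bijective _ _).1 (by rw [← Ext.mk₀_comp_mk₀]; exact hx₂)
        obtain ⟨t', rfl⟩ := (a S.X₂).surjective t
        obtain rfl : t' ≫ S.g = f := (a _).injective ((ha _ _ S.g t').trans ht)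
        rw [← Ext.mk₀_comp_mk₀_assoc, hS.comp_extClass, Ext.comp_zero]
    | succ m =>
      obtain ⟨e⟩ := ih S.X₃
      refine nonempty_addEquiv_of_ker_eq δ₁ (δ₂.comp e.toAddMonoidHom) s₁ (s₂.comp e.surjective) ?_
      ext z
      show δ₁ z = 0 ↔ δ₂ (e z) = 0
      refine ⟨fun h => ?_, fun h => ?_⟩
      · obtain ⟨x₂, hx₂⟩ := Ext.covariant_sequence_exact₃ X hS z rfl h
        obtain rfl : z = 0 := by rw [← hx₂, Ext.eq_zero_of_injective x₂, Ext.zero_comp]
        rw [map_zero, map_zero]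
      · obtain ⟨x₂, hx₂⟩ := Ext.covariant_sequence_exact₃ X' hT (e z) rfl h
        haveI := hacyc S.X₂ m
        obtain rfl : z = 0 := e.injective (by
          rw [map_zero, ← hx₂, Subsingleton.elim (α := Ext X' (G.obj S.X₂) (m + 1)) x₂ 0]
          exact Ext.zero_comp ..)
        rw [map_zero]

end Groth.Agent.Lead.SiteCoh
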