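import Mathlib.Algebra.Homology.DerivedCategory.Ext.ExactSequences
import Mathlib.Algebra.Homology.QuasiIso
import Mathlib.Algebra.Homology.SingleHomology
import Mathlib.Algebra.Homology.ShortComplex.QuasiIso

/-!
Maps out of a resolution by objects acyclic for `Ext(-, F)` form an exact complex.
-/

set_option autoImplicit false

open CategoryTheory Limits Abelian

universe w v u

namespace Groth.Agent.Lead.SiteCoh

variable {A : Type u} [Category.{v} A] [Abelian A] [HasExt.{w} A]

/-- vanishing of higher `Ext` into `F` -/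
def Van (X F : A) : Prop := ∀ q : ℕ, Subsingleton (Ext X F (q + 1))

variable {F : A}

theorem van_X₁ {S : ShortComplex A} (hS : S.ShortExact) (h₂ : Van S.X₂ F) (h₃ : Van S.X₃ F) : Van S.X₁ F := by
  intro q
  refine subsingleton_of_forall_eq 0 fun x => ?_
  haveI := h₃ (q + 1)
  obtain ⟨x₂, rfl⟩ := Ext.contravariant_sequence_exact₁ hS F x (by omega : 1 + (q + 1) = q + 2)
    (Subsingleton.elim _ _)
  haveI := h₂ q
  rw [Subsingleton.elim x₂ 0, Ext.comp_zero]

theorem shortExact_lift {X Y Z : A} (f : X ⟶ Y) (g : Y ⟶ Z) (w : f ≫ g = 0) (h : (ShortComplex.mk f g w).Exact) :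
    (ShortComplex.mk (kernel.ι f) (kernel.lift g f w) (by
      rw [← cancel_mono (kernel.ι g), Category.assoc, kernel.lift_ι, kernel.condition, zero_comp])).ShortExact := by
  haveI : Epi (kernel.lift g f w) := by
    haveI := (ShortComplex.exact_iff_epi_kernel_lift _).1 h
    infer_instance
  refine ShortComplex.ShortExact.mk' ?_ (inferInstance : Mono (kernel.ι f)) (inferInstance : Epi (kernel.lift g f w))
  refine ShortComplex.exact_of_f_is_kernel _ (KernelFork.IsLimit.ofι' _ _ fun {T} k hk => ?_)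
  exact ⟨kernel.lift f k (by
    have := congrArg (· ≫ kernel.ι g) hk
    simpa using this), kernel.lift_ι _ _ _⟩

theorem van_kernel {X Y Z : A} (f : X ⟶ Y) (g : Y ⟶ Z) (w : f ≫ g = 0) (h : (ShortComplex.mk f g w).Exact)
    (hX : Van X F) (hg : Van (kernel g) F) : Van (kernel f) F :=
  van_X₁ (shortExact_lift f g w h) hX hg

theorem exists_fac {X Y Z W : A} (f : X ⟶ Y) (g : Y ⟶ Z) (w : f ≫ g = 0) (h : (ShortComplex.mk f g w).Exact)
    (q : Z ⟶ W) [Epi q] (w' : g ≫ q = 0) (h' : (ShortComplex.mk g q w').Exact) (hW : Van W F)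
    (a : Y ⟶ F) (ha : f ≫ a = 0) : ∃ b : Z ⟶ F, g ≫ b = a := by
  let p := kernel.lift q g w'
  haveI : Epi p := (ShortComplex.exact_iff_epi_kernel_lift _).1 h'
  have hp : kernel.ι p ≫ a = 0 := by
    let l : X ⟶ kernel g := kernel.lift g f w
    haveI : Epi l := (ShortComplex.exact_iff_epi_kernel_lift _).1 h
    have e1 : kernel.ι p ≫ g = 0 := by rw [← kernel.lift_ι q g w', ← Category.assoc, kernel.condition, zero_comp]
    rw [← kernel.lift_ι g (kernel.ι p) e1, Category.assoc,
      show kernel.ι g ≫ a = 0 by rw [← cancel_epi l, ← Category.assoc, kernel.lift_ι, ha, comp_zero], comp_zero]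
  let k := Abelian.epiDesc p a hp
  let S : ShortComplex A := ShortComplex.mk (kernel.ι q) q (kernel.condition q)
  have hS : S.ShortExact :=
    ShortComplex.ShortExact.mk' (ShortComplex.exact_of_f_is_kernel _ (kernelIsKernel q))
      (inferInstance : Mono (kernel.ι q)) (inferInstance : Epi q)
  haveI := hW 0
  obtain ⟨x₂, hx₂⟩ := Ext.contravariant_sequence_exact₁ hS F (Ext.mk₀ k) (by omega : 1 + 0 = 1) (Subsingleton.elim _ _)
  obtain ⟨b, rfl⟩ := Ext.homEquiv₀.symm.surjective x₂
  refine ⟨b, ?_⟩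
  have hb : kernel.ι q ≫ b = k := (Ext.mk₀_bijective _ F).1 (by rw [← Ext.mk₀_comp_mk₀]; exact hx₂)
  rw [← kernel.lift_ι q g w', Category.assoc, hb]
  exact Abelian.comp_epiDesc p a hp

variable {X : A} {C : ChainComplex A ℕ} (ε : C ⟶ (ChainComplex.single₀ A).obj X) [QuasiIso ε]

/-- the augmentation -/
noncomputable abbrev aug : C.X 0 ⟶ X := ε.f 0

omit [HasExt.{w} A] in
theorem aug_spec : ∃ (w : C.d 1 0 ≫ aug ε = 0), (ShortComplex.mk _ _ w).Exact ∧ Epi (aug ε) := by
  have h := (inferInstance : QuasiIsoAt ε 0)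
  rw [ChainComplex.quasiIsoAt₀_iff, ShortComplex.quasiIso_iff_of_zeros'] at h
  · exact ⟨_, h.1, h.2⟩
  all_goals first | rfl | (simp; rfl) | simp

omit [HasExt.{w} A] in
include ε in
theorem exact_d (n : ℕ) : (ShortComplex.mk (C.d (n + 2) (n + 1)) (C.d (n + 1) n) (C.d_comp_d _ _ _)).Exact := by
  have h := (inferInstance : QuasiIsoAt ε (n + 1))
  rw [quasiIsoAt_iff_exactAt' _ _ (ChainComplex.exactAt_succ_single_obj _ _)] at h
  exact (HomologicalComplex.exactAt_iff' _ (n + 2) (n + 1) n (by simp) (by simp)).1 h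

include ε in
theorem van_kernel_d (hC : ∀ n, Van (C.X n) F) (hX : Van X F) : ∀ n, Van (kernel (C.d (n + 1) n)) F := by
  obtain ⟨w, hex, he⟩ := aug_spec ε
  intro n
  induction n with
  | zero =>
    refine van_kernel _ (aug ε) w hex (hC 1) ?_
    exact van_X₁ (S := ShortComplex.mk (kernel.ι (aug ε)) (aug ε) (kernel.condition _))
      (ShortComplex.ShortExact.mk' (ShortComplex.exact_of_f_is_kernel _ (kernelIsKernel _))
        (inferInstance : Mono (kernel.ι (aug ε))) he) (hC 0) hX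
  | succ n ih => exact van_kernel _ _ _ (exact_d ε n) (hC (n + 2)) ih

include ε in
/-- exactness of maps out of an acyclic resolution -/
theorem exists_d_comp (hC : ∀ n, Van (C.X n) F) (hX : Van X F) (n : ℕ) (a : C.X (n + 1) ⟶ F)
    (ha : C.d (n + 2) (n + 1) ≫ a = 0) : ∃ b : C.X n ⟶ F, C.d (n + 1) n ≫ b = a := by
  obtain ⟨w, hex, he⟩ := aug_spec ε
  cases n with
  | zero => exact exists_fac _ _ _ (exact_d ε 0) (aug ε) w hex hX a ha
  | succ n =>
    cases n with
    | zero =>
      let q : C.X 1 ⟶ kernel (aug ε) := kernel.lift (aug ε) (C.d 1 0) w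
      haveI : Epi q := (ShortComplex.exact_iff_epi_kernel_lift _).1 hex
      have w' : C.d 2 1 ≫ q = 0 := by rw [← cancel_mono (kernel.ι _), Category.assoc, kernel.lift_ι, C.d_comp_d, zero_comp]
      refine exists_fac _ _ _ (exact_d ε 1) q w' ?_ ?_ a ha
      · refine (ShortComplex.exact_iff_of_epi_of_isIso_of_mono (S₁ := ShortComplex.mk (C.d 2 1) q w')
          (S₂ := ShortComplex.mk (C.d 2 1) (C.d 1 0) (C.d_comp_d _ _ _))
          { τ₁ := 𝟙 _, τ₂ := 𝟙 _, τ₃ := kernel.ι _, comm₁₂ := by simp, comm₂₃ := by simp [q] }).2 (exact_d ε 0)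
      · exact van_X₁ (S := ShortComplex.mk (kernel.ι (aug ε)) (aug ε) (kernel.condition _))
          (ShortComplex.ShortExact.mk' (ShortComplex.exact_of_f_is_kernel _ (kernelIsKernel _))
            (inferInstance : Mono (kernel.ι (aug ε))) he) (hC 0) hX
    | succ n =>
      let q : C.X (n + 2) ⟶ kernel (C.d (n + 1) n) := kernel.lift _ (C.d (n + 2) (n + 1)) (C.d_comp_d _ _ _)
      haveI : Epi q := (ShortComplex.exact_iff_epi_kernel_lift _).1 (exact_d ε n)
      have w' : C.d (n + 3) (n + 2) ≫ q = 0 := by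
        rw [← cancel_mono (kernel.ι _), Category.assoc, kernel.lift_ι, C.d_comp_d, zero_comp]
      refine exists_fac _ _ _ (exact_d ε (n + 2)) q w' ?_ (van_kernel_d ε hC hX n) a ha
      refine (ShortComplex.exact_iff_of_epi_of_isIso_of_mono (S₁ := ShortComplex.mk (C.d (n + 3) (n + 2)) q w')
        (S₂ := ShortComplex.mk (C.d (n + 3) (n + 2)) (C.d (n + 2) (n + 1)) (C.d_comp_d _ _ _))
        { τ₁ := 𝟙 _, τ₂ := 𝟙 _, τ₃ := kernel.ι _, comm₁₂ := by simp, comm₂₃ := by simp [q] }).2 (exact_d ε (n + 1))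

end Groth.Agent.Lead.SiteCoh
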