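import Mathlib.CategoryTheory.Abelian.GrothendieckCategory.Subobject
import Mathlib.CategoryTheory.Abelian.GrothendieckCategory.EnoughInjectives
import Mathlib.Order.Zorn

/-!
Baer's criterion with a family of generators.
-/

set_option autoImplicit false

open CategoryTheory Limits

universe w v u

namespace Groth.Agent.Lead.SiteCoh.Baer

variable {A : Type u} [Category.{v} A] [Abelian A] [IsGrothendieckAbelian.{v} A]

/-- partial extensions -/
abbrev Ext' (B I : A) : Type max u v := Σ S : Subobject B, ((S : A) ⟶ I)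

instance (B I : A) : Preorder (Ext' B I) where
  le p q := ∃ h : p.1 ≤ q.1, Subobject.ofLE _ _ h ≫ q.2 = p.2
  le_refl p := ⟨le_rfl, by simp⟩
  le_trans p q r := fun ⟨h, e⟩ ⟨h', e'⟩ => ⟨h.trans h', by rw [← Subobject.ofLE_comp_ofLE _ _ _ h h', Category.assoc, e', e]⟩

theorem exists_maximal {B I : A} (p₀ : Ext' B I) : ∃ m, p₀ ≤ m ∧ IsMax m := by
  refine zorn_le_nonempty_Ici₀ p₀ (fun c hc hch y hy => ?_) p₀ le_rfl
  haveI : Small.{v} (Ext' B I) := inferInstance
  haveI : Small.{v} c := inferInstance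
  let J := {j : Shrink.{v} c // j = j}
  letI : Preorder J := Preorder.lift fun j => ((equivShrink c).symm j.1).1
  haveI : Nonempty J := ⟨⟨equivShrink c ⟨y, hy⟩, rfl⟩⟩
  haveI : IsDirectedOrder J := ⟨fun i j => by
    rcases hch.total ((equivShrink c).symm i.1).2 ((equivShrink c).symm j.1).2 with h | h
    · exact ⟨j, h, le_refl j⟩
    · exact ⟨i, le_refl i, h⟩⟩
  let e : J → Ext' B I := fun j => ((equivShrink c).symm j.1).1
  have hle : ∀ {i j : J}, (i ⟶ j) → e i ≤ e j := fun {i j} g => (leOfHom g : i ≤ j)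
  let F : J ⥤ MonoOver B :=
    { obj := fun j => MonoOver.mk (e j).1.arrow
      map := fun {i j} f => MonoOver.homMk (Subobject.ofLE _ _ (hle f).choose) }
  let D := F ⋙ MonoOver.forget _ ⋙ Over.forget _
  let c₁ : Cocone D := Cocone.mk B
    { app := fun j => (e j).1.arrow
      naturality := fun i j g => by simp [D, F] }
  let f : colimit D ⟶ B := colimit.desc D c₁
  haveI : Mono f := IsGrothendieckAbelian.mono_of_isColimit_monoOver F (colimit.isColimit D) f
    (fun j => colimit.ι_desc c₁ j)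
  let ψ : colimit D ⟶ I := colimit.desc D (Cocone.mk I
    { app := fun j => (e j).2
      naturality := fun i j g => by
        exact ((hle g).choose_spec).trans (Category.comp_id _).symm })
  refine ⟨⟨Subobject.mk f, (Subobject.underlyingIso f).hom ≫ ψ⟩, fun z hz => ?_⟩
  let j : J := ⟨equivShrink c ⟨z, hz⟩, rfl⟩
  have hj : e j = z := congrArg Subtype.val ((equivShrink c).symm_apply_apply ⟨z, hz⟩)
  rw [← hj]
  have h : (e j).1 ≤ Subobject.mk f := Subobject.le_mk_of_comm (colimit.ι D j) (colimit.ι_desc c₁ j)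
  refine ⟨h, ?_⟩
  have : Subobject.ofLE _ _ h ≫ (Subobject.underlyingIso f).hom = colimit.ι D j := by
    rw [← cancel_mono f, Category.assoc, Subobject.underlyingIso_hom_comp_eq_mk, Subobject.ofLE_arrow]
    exact (colimit.ι_desc c₁ j).symm
  rw [reassoc_of% this]
  exact colimit.ι_desc _ j

/-- Baer's criterion -/
theorem injective_of_extends {ι : Type*} (G : ι → A) (I : A)
    (hG : ∀ {S B : A} (p : S ⟶ B) [Mono p], ¬ IsIso p → ∃ (i : ι) (s : G i ⟶ B), ∀ a, a ≫ p ≠ s)
    (h : ∀ (i : ι) (S : A) (j : S ⟶ G i) [Mono j] (φ : S ⟶ I), ∃ ψ : G i ⟶ I, j ≫ ψ = φ) : Injective I := by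
  constructor
  intro X B g m _
  obtain ⟨⟨T, ψ⟩, ⟨hle, hψ⟩, hmax⟩ := exists_maximal (⟨Subobject.mk m, (Subobject.underlyingIso m).hom ≫ g⟩ : Ext' B I)
  by_cases hT : IsIso T.arrow
  · refine ⟨inv T.arrow ≫ ψ, ?_⟩
    have : m ≫ inv T.arrow = (Subobject.underlyingIso m).inv ≫ Subobject.ofLE _ _ hle := by
      rw [IsIso.comp_inv_eq]; simp
    rw [reassoc_of% this, hψ, Iso.inv_hom_id_assoc]
  obtain ⟨i, s, hs⟩ := hG T.arrow hT
  obtain ⟨χ, hχ⟩ := h i _ (pullback.snd T.arrow s) (pullback.fst T.arrow s ≫ ψ)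
  let p' := pushout.desc T.arrow s pullback.condition
  haveI : Mono p' := (IsPushout.of_hasPushout _ _).mono_of_isPullback_of_mono
    (IsPullback.of_hasPullback T.arrow s) _ (pushout.inl_desc _ _ _) (pushout.inr_desc _ _ _)
  have hle' : T ≤ Subobject.mk p' := Subobject.le_mk_of_comm (pushout.inl _ _) (pushout.inl_desc _ _ _)
  obtain ⟨hge, -⟩ := hmax (b := ⟨Subobject.mk p', (Subobject.underlyingIso p').hom ≫ pushout.desc ψ χ hχ.symm⟩)
    ⟨hle', by
      have : Subobject.ofLE _ _ hle' ≫ (Subobject.underlyingIso p').hom = pushout.inl _ _ := by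
        rw [← cancel_mono p', Category.assoc, Subobject.underlyingIso_hom_comp_eq_mk, Subobject.ofLE_arrow]
        exact (pushout.inl_desc _ _ _).symm
      rw [reassoc_of% this]; exact pushout.inl_desc _ _ _⟩
  refine absurd ?_ (hs (pushout.inr _ _ ≫ (Subobject.underlyingIso p').inv ≫ Subobject.ofLE _ _ hge))
  rw [Category.assoc, Category.assoc, Subobject.ofLE_arrow, Subobject.underlyingIso_arrow]
  exact pushout.inr_desc _ _ _

end Groth.Agent.Lead.SiteCoh.Baer
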