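import Mathlib.Algebra.Category.Grp.LeftExactFunctor
import Mathlib.Algebra.Category.Grp.Adjunctions
import Mathlib.Algebra.Category.Grp.AB
import Mathlib.CategoryTheory.Sites.Pullback
import Mathlib.CategoryTheory.Sites.Abelian
import Mathlib.CategoryTheory.Sites.Limits
import Mathlib.CategoryTheory.Sites.Whiskering
import Mathlib.CategoryTheory.Adjunction.Unique

/-!
If the inverse image of a morphism of topoi is exact on sheaves of sets, it is exact on abelian sheaves:
its lift to abelian group objects is left adjoint to the direct image.
-/

set_option autoImplicit false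
set_option backward.isDefEq.respectTransparency false
set_option backward.defeqAttrib.useBackward true

open CategoryTheory Limits Opposite

universe u

namespace Groth.Agent.Lead.SiteCoh

variable {A : Type*} [Category.{u} A] [Preadditive A] [HasFiniteBiproducts A]

theorem exists_lift (F G : A ⥤ AddCommGrpCat.{u}) [PreservesFiniteLimits F] [PreservesFiniteLimits G]
    (θ : F ⋙ forget _ ⟶ G ⋙ forget _) :
    ∃ θ' : F ⟶ G, ∀ (X : A) (x : F.obj X), θ'.app X x = θ.app X x := by
  obtain ⟨t, ht⟩ := (AddCommGrpCat.leftExactFunctorForgetEquivalence A).functor.map_surjective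
    (X := LeftExactFunctor.of F) (Y := LeftExactFunctor.of G) ⟨θ⟩
  refine ⟨t.hom, fun X x => ?_⟩
  exact congrArg (fun s => s.hom.app X x) ht

variable {C D : Type u} [SmallCategory C] [SmallCategory D] (J : GrothendieckTopology C) (K : GrothendieckTopology D)
  (u : D ⥤ C) [u.IsContinuous K J] [PreservesFiniteLimits (u.sheafPullback (Type u) K J)]

attribute [local instance] Abelian.hasFiniteBiproducts

abbrev AbSh (K : GrothendieckTopology D) := Sheaf K AddCommGrpCat.{u}

/-- underlying sets of the inverse image, as left exact functors -/
noncomputable def pullSet : Cᵒᵖ ⥤ (AbSh K ⥤ₗ Type u) :=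
  ObjectProperty.lift _
    (sheafCompose K (forget AddCommGrpCat.{u}) ⋙ u.sheafPullback (Type u) K J ⋙ sheafToPresheaf J (Type u)).flip
    (fun V => by
      simp only [leftExactFunctor_iff]
      haveI : PreservesFiniteLimits (sheafCompose K (forget AddCommGrpCat.{u})) := by
        haveI : ReflectsFiniteLimits (sheafToPresheaf K (Type u)) := inferInstance
        constructor
        intro L _ _
        haveI : PreservesLimitsOfShape L (sheafCompose K (forget AddCommGrpCat.{u}) ⋙ sheafToPresheaf K (Type u)) :=
          inferInstanceAs (PreservesLimitsOfShape L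
            (sheafToPresheaf K AddCommGrpCat.{u} ⋙ (Functor.whiskeringRight _ _ _).obj (forget AddCommGrpCat.{u})))
        exact preservesLimitsOfShape_of_reflects_of_preserves _ (sheafToPresheaf K (Type u))
      exact inferInstanceAs (PreservesFiniteLimits (sheafCompose K (forget AddCommGrpCat.{u}) ⋙
        u.sheafPullback (Type u) K J ⋙ sheafToPresheaf J (Type u) ⋙ (evaluation Cᵒᵖ (Type u)).obj V)))

/-- the inverse image with its group structure, as a presheaf -/
noncomputable def pullPre : AbSh K ⥤ Cᵒᵖ ⥤ AddCommGrpCat.{u} :=
  (pullSet J K u ⋙ (AddCommGrpCat.leftExactFunctorForgetEquivalence (AbSh K)).inverse ⋙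
    ObjectProperty.ι _).flip

instance (V : Cᵒᵖ) : PreservesFiniteLimits (pullPre J K u ⋙ (evaluation _ _).obj V) :=
  ((AddCommGrpCat.leftExactFunctorForgetEquivalence (AbSh K)).inverse.obj ((pullSet J K u).obj V)).property

/-- the inverse image on abelian sheaves built from sheaves of sets -/
noncomputable def pullAb : AbSh K ⥤ Sheaf J AddCommGrpCat.{u} :=
  ObjectProperty.lift _ (pullPre J K u) fun X => by
    rw [Presheaf.isSheaf_iff_isSheaf_forget J _ (forget AddCommGrpCat.{u})]
    exact ((u.sheafPullback (Type u) K J).obj ((sheafCompose K (forget AddCommGrpCat.{u})).obj X)).property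

instance : PreservesFiniteLimits (pullAb J K u) where
  preservesFiniteLimits L _ _ := by
    haveI : PreservesLimitsOfShape L (pullPre J K u) :=
      preservesLimitsOfShape_of_evaluation _ _ fun V => inferInstance
    haveI : PreservesLimitsOfShape L (pullAb J K u ⋙ sheafToPresheaf J AddCommGrpCat.{u}) := ‹_›
    exact preservesLimitsOfShape_of_reflects_of_preserves _ (sheafToPresheaf J AddCommGrpCat.{u})

theorem nonempty_adjunction :
    Nonempty (pullAb J K u ⊣ u.sheafPushforwardContinuous AddCommGrpCat.{u} K J) := by
  let adj := u.sheafAdjunctionContinuous (Type u) K J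
  let UK := sheafCompose K (forget AddCommGrpCat.{u})
  let UJ := sheafCompose J (forget AddCommGrpCat.{u})
  let push := u.sheafPushforwardContinuous AddCommGrpCat.{u} K J
  haveI : PreservesFiniteLimits push := by
    haveI : (push).IsRightAdjoint := inferInstance
    infer_instance
  have hη : ∀ W : Dᵒᵖ, ∃ η : sheafToPresheaf K AddCommGrpCat.{u} ⋙ (evaluation _ _).obj W ⟶
      pullPre J K u ⋙ (evaluation _ _).obj (u.op.obj W),
      ∀ (X : AbSh K) (x : X.obj.obj W), η.app X x = (adj.unit.app (UK.obj X)).hom.app W x := fun W =>
    exists_lift (sheafToPresheaf K AddCommGrpCat.{u} ⋙ (evaluation _ _).obj W)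
      (pullPre J K u ⋙ (evaluation _ _).obj (u.op.obj W))
      { app := fun X => (adj.unit.app (UK.obj X)).hom.app W
        naturality := fun X Y f => congrArg (fun t => t.hom.app W) (adj.unit.naturality (UK.map f)) }
  choose η hη using hη
  have hε : ∀ V : Cᵒᵖ, ∃ ε : push ⋙ pullPre J K u ⋙ (evaluation _ _).obj V ⟶
      sheafToPresheaf J AddCommGrpCat.{u} ⋙ (evaluation _ _).obj V,
      ∀ (B : Sheaf J AddCommGrpCat.{u}) (x : ((pullPre J K u).obj (push.obj B)).obj V),
        ε.app B x = (adj.counit.app (UJ.obj B)).hom.app V x := fun V =>
    exists_lift (push ⋙ pullPre J K u ⋙ (evaluation _ _).obj V)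
      (sheafToPresheaf J AddCommGrpCat.{u} ⋙ (evaluation _ _).obj V)
      { app := fun B => (adj.counit.app (UJ.obj B)).hom.app V
        naturality := fun X Y f => congrArg (fun t => t.hom.app V) (adj.counit.naturality (UJ.map f)) }
  choose ε hε using hε
  let unit : 𝟭 (AbSh K) ⟶ pullAb J K u ⋙ push :=
    { app := fun X => ⟨
        { app := fun W => (η W).app X
          naturality := fun W W' i => by
            ext x
            show (η W').app X (X.obj.map i x) = ((pullPre J K u).obj X).map (u.op.map i) ((η W).app X x)
            rw [hη, hη]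
            exact congrArg (fun t => t x) ((adj.unit.app (UK.obj X)).hom.naturality i) }⟩
      naturality := fun X Y f => by
        ext W : 3
        exact (η W).naturality f }
  let counit : push ⋙ pullAb J K u ⟶ 𝟭 (Sheaf J AddCommGrpCat.{u}) :=
    { app := fun B => ⟨
        { app := fun V => (ε V).app B
          naturality := fun V V' i => by
            ext x
            show (ε V').app B (((pullPre J K u).obj (push.obj B)).map i x) = B.obj.map i ((ε V).app B x)
            rw [hε, hε]
            exact congrArg (fun t => t x) ((adj.counit.app (UJ.obj B)).hom.naturality i) }⟩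
      naturality := fun X Y f => by
        ext V : 3
        exact (ε V).naturality f }
  have hU : ∀ X : AbSh K, UK.map (unit.app X) = adj.unit.app (UK.obj X) := fun X => by
    ext W x
    exact hη W X x
  have hC : ∀ B : Sheaf J AddCommGrpCat.{u}, UJ.map (counit.app B) = adj.counit.app (UJ.obj B) := fun B => by
    ext V x
    exact hε V B x
  refine ⟨Adjunction.mkOfUnitCounit { unit := unit, counit := counit, left_triangle := ?_, right_triangle := ?_ }⟩
  · ext X V x
    show (ε V).app ((pullAb J K u).obj X) (((pullPre J K u).map (unit.app X)).app V x) = x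
    rw [hε]
    show (adj.counit.app (UJ.obj ((pullAb J K u).obj X))).hom.app V
      (((u.sheafPullback (Type u) K J).map (UK.map (unit.app X))).hom.app V x) = x
    rw [hU]
    exact congrArg (fun t => t.hom.app V x) (adj.left_triangle_components (UK.obj X))
  · ext B W x
    show (ε (u.op.obj W)).app B ((η W).app (push.obj B) x) = x
    rw [hε, hη]
    exact congrArg (fun t => t.hom.app W x) (adj.right_triangle_components (UJ.obj B))

theorem preservesFiniteLimits_sheafPullback :
    PreservesFiniteLimits (u.sheafPullback AddCommGrpCat.{u} K J) := by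
  obtain ⟨adj'⟩ := nonempty_adjunction J K u
  exact preservesFiniteLimits_of_natIso (adj'.leftAdjointUniq (u.sheafAdjunctionContinuous AddCommGrpCat.{u} K J))

/-- the direct image of injective sheaves is injective -/
theorem injective_push (I : Sheaf J AddCommGrpCat.{u}) [Injective I] :
    Injective ((u.sheafPushforwardContinuous AddCommGrpCat.{u} K J).obj I) := by
  obtain ⟨adj'⟩ := nonempty_adjunction J K u
  haveI : (pullAb J K u).PreservesMonomorphisms :=
    preservesMonomorphisms_of_preservesLimitsOfShape (pullAb J K u)
  exact Injective.injective_of_adjoint adj' I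

end Groth.Agent.Lead.SiteCoh
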