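import Groth.Prelude.Def_CohCx
import Groth.Agent.Lead.Flasque.ExtCompute
import Groth.Agent.Lead.SiteCoh.PullExact
import Mathlib.Algebra.Homology.DerivedCategory.Ext.ExactSequences
import Mathlib.CategoryTheory.Abelian.GrothendieckCategory.EnoughInjectives
import Mathlib.CategoryTheory.Adjunction.Whiskering
import Mathlib.Algebra.Homology.ShortComplex.Ab
import Mathlib.CategoryTheory.Abelian.FunctorCategory

/-!
Cohomology on a site computed by sections of an injective resolution; acyclic sheaves and direct images.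
-/

set_option autoImplicit false
set_option backward.isDefEq.respectTransparency false
set_option backward.defeqAttrib.useBackward true

open CategoryTheory Limits Opposite Abelian

universe u

namespace Groth.Agent.Lead.SiteCoh

variable {C : Type u} [SmallCategory C] {J : GrothendieckTopology C}

/-- the free abelian sheaf on a presheaf of sets -/
noncomputable abbrev freeP (P : Cᵒᵖ ⥤ Type u) : Sheaf J AddCommGrpCat.{u} :=
  (presheafToSheaf J AddCommGrpCat.{u}).obj (P ⋙ AddCommGrpCat.free.{u})

/-- the map of free sheaves -/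
noncomputable abbrev freePMap {P Q : Cᵒᵖ ⥤ Type u} (α : P ⟶ Q) : freeP (J := J) P ⟶ freeP Q :=
  (presheafToSheaf J AddCommGrpCat.{u}).map (Functor.whiskerRight α AddCommGrpCat.free.{u})

/-- maps out of the free sheaf on a presheaf of sets -/
noncomputable def setEquiv (P : Cᵒᵖ ⥤ Type u) (G : Sheaf J AddCommGrpCat.{u}) :
    (freeP P ⟶ G) ≃ (P ⟶ G.obj ⋙ forget AddCommGrpCat.{u}) :=
  ((sheafificationAdjunction J AddCommGrpCat.{u}).homEquiv _ G).trans
    ((AddCommGrpCat.adj.whiskerRight Cᵒᵖ).homEquiv P G.obj)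

theorem setEquiv_comp (P : Cᵒᵖ ⥤ Type u) {G G' : Sheaf J AddCommGrpCat.{u}} (g : freeP P ⟶ G) (φ : G ⟶ G') :
    setEquiv P G' (g ≫ φ) = setEquiv P G g ≫ Functor.whiskerRight φ.hom (forget AddCommGrpCat.{u}) := by
  simp only [setEquiv, Equiv.trans_apply]
  erw [Adjunction.homEquiv_naturality_right, Adjunction.homEquiv_naturality_right]
  rfl

theorem setEquiv_map {P Q : Cᵒᵖ ⥤ Type u} (α : P ⟶ Q) (G : Sheaf J AddCommGrpCat.{u}) (g : freeP Q ⟶ G) :
    setEquiv P G (freePMap α ≫ g) = α ≫ setEquiv Q G g := by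
  simp only [setEquiv, Equiv.trans_apply]
  erw [Adjunction.homEquiv_naturality_left, Adjunction.homEquiv_naturality_left]
  rfl

/-- maps out of the free sheaf on an object are sections -/
noncomputable def freeEquiv (U : C) (G : Sheaf J AddCommGrpCat.{u}) :
    (CohCx.freeSheaf J U ⟶ G) ≃ G.obj.obj (op U) :=
  (setEquiv (yoneda.obj U) G).trans yonedaEquiv

theorem freeEquiv_comp (U : C) {G G' : Sheaf J AddCommGrpCat.{u}} (g : CohCx.freeSheaf J U ⟶ G) (φ : G ⟶ G') :
    freeEquiv U G' (g ≫ φ) = φ.hom.app (op U) (freeEquiv U G g) := by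
  simp only [freeEquiv, Equiv.trans_apply]
  erw [setEquiv_comp, yonedaEquiv_comp]

theorem freeEquiv_map {U V : C} (i : V ⟶ U) (G : Sheaf J AddCommGrpCat.{u}) (g : CohCx.freeSheaf J U ⟶ G) :
    freeEquiv V G (CohCx.freeSheafMap J i ≫ g) = G.obj.map i.op (freeEquiv U G g) := by
  simp only [freeEquiv, Equiv.trans_apply]
  erw [setEquiv_map]
  exact (yonedaEquiv_naturality _ i).symm

variable {F : Sheaf J AddCommGrpCat.{u}} (R : InjectiveResolution F)

/-- vanishing of `Ext` is exactness of maps into an injective resolution -/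
theorem subsingleton_ext_iff (X : Sheaf J AddCommGrpCat.{u}) (n : ℕ) :
    Subsingleton (Ext X F (n + 1)) ↔
      ∀ f : X ⟶ R.cocomplex.X (n + 1), f ≫ R.cocomplex.d (n + 1) (n + 2) = 0 →
        ∃ g : X ⟶ R.cocomplex.X n, g ≫ R.cocomplex.d n (n + 1) = f := by
  constructor
  · intro h f hf
    exact (R.extMk_eq_zero_iff f (n + 2) rfl hf n rfl).1 (Subsingleton.elim _ _)
  · intro h
    refine subsingleton_of_forall_eq 0 fun x => ?_
    obtain ⟨f, hf, rfl⟩ := R.extMk_surjective x (n + 2) rfl
    exact (R.extMk_eq_zero_iff f (n + 2) rfl hf n rfl).2 (h f hf)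

/-- vanishing of cohomology over an object is exactness of sections of an injective resolution -/
theorem subsingleton_HU_iff (U : C) (n : ℕ) :
    Subsingleton (CohSite.HU F (n + 1) U) ↔
      ∀ s, (R.cocomplex.d (n + 1) (n + 2)).hom.app (op U) s = 0 →
        ∃ t, (R.cocomplex.d n (n + 1)).hom.app (op U) t = s := by
  refine (subsingleton_ext_iff R (CohCx.freeSheaf J U) n).trans ⟨fun h s hs => ?_, fun h f hf => ?_⟩
  · obtain ⟨f, rfl⟩ := (freeEquiv U _).surjective s
    have hf : f ≫ R.cocomplex.d (n + 1) (n + 2) = 0 := by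
      apply (freeEquiv U _).injective
      rw [freeEquiv_comp, hs, ← zero_comp (X := CohCx.freeSheaf J U) (Y := R.cocomplex.X (n + 1))
        (f := (0 : R.cocomplex.X (n + 1) ⟶ R.cocomplex.X (n + 2))), freeEquiv_comp]
      rfl
    obtain ⟨g, rfl⟩ := h f hf
    exact ⟨freeEquiv U _ g, (freeEquiv_comp U g _).symm⟩
  · have hz : freeEquiv U (R.cocomplex.X (n + 2)) 0 = 0 := by
      rw [← zero_comp (X := CohCx.freeSheaf J U) (Y := R.cocomplex.X (n + 1))
        (f := (0 : R.cocomplex.X (n + 1) ⟶ R.cocomplex.X (n + 2))), freeEquiv_comp]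
      rfl
    obtain ⟨t, ht⟩ := h (freeEquiv U _ f) (by rw [← freeEquiv_comp, hf, hz])
    obtain ⟨g, rfl⟩ := (freeEquiv U _).surjective t
    exact ⟨g, (freeEquiv U _).injective (by rw [freeEquiv_comp, ht])⟩

theorem subsingleton_HU_of_injective (I : Sheaf J AddCommGrpCat.{u}) [Injective I] (n : ℕ) (U : C) :
    Subsingleton (CohSite.HU I (n + 1) U) :=
  subsingleton_of_forall_eq 0 fun x => Ext.eq_zero_of_injective (X := CohCx.freeSheaf J U) x

/-- sectionwise exactness implies exactness of sheaves -/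
theorem exact_of_sections (S : ShortComplex (Sheaf J AddCommGrpCat.{u}))
    (h : ∀ (U : Cᵒᵖ) (s : S.X₂.obj.obj U), S.g.hom.app U s = 0 → ∃ t : S.X₁.obj.obj U, S.f.hom.app U t = s) :
    S.Exact := by
  have hP : (S.map (sheafToPresheaf J AddCommGrpCat.{u})).Exact := by
    rw [ShortComplex.exact_iff_isZero_homology]
    refine Functor.isZero _ fun U => ?_
    refine (((ShortComplex.exact_iff_isZero_homology _).1 ?_)).of_iso
      ((S.map (sheafToPresheaf J AddCommGrpCat.{u})).mapHomologyIso ((evaluation _ _).obj U)).symm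
    exact (ShortComplex.ab_exact_iff _).2 fun s hs => h U s hs
  exact (ShortComplex.exact_iff_of_iso (S.mapNatIso (asIso (sheafificationAdjunction J AddCommGrpCat.{u}).counit))).1
    (hP.map (presheafToSheaf J AddCommGrpCat.{u}))

variable {D : Type u} [SmallCategory D] (K : GrothendieckTopology D) (u : D ⥤ C) [u.IsContinuous K J]

theorem isZero_Rpush_of_acyclic (F : Sheaf J AddCommGrpCat.{u}) (n : ℕ)
    (hF : ∀ W : D, Subsingleton (CohSite.HU F (n + 1) (u.obj W))) :
    IsZero ((CohSite.Rpush J K u (n + 1)).obj F) := by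
  let R := injectiveResolution F
  refine IsZero.of_iso ?_ (R.isoRightDerivedObj (CohSite.push J K u) (n + 1))
  refine (HomologicalComplex.exactAt_iff_isZero_homology _ _).1 ?_
  rw [HomologicalComplex.exactAt_iff' _ n (n + 1) (n + 2) (by simp) (by simp)]
  exact exact_of_sections _ fun W s hs => (subsingleton_HU_iff R (u.obj W.unop) n).1 (hF W.unop) s hs

/-- direct image of a sheaf acyclic on all `u W` is acyclic when inverse image is exact -/
theorem subsingleton_HU_push [PreservesFiniteLimits (u.sheafPullback (Type u) K J)] (F : Sheaf J AddCommGrpCat.{u})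
    (hF : ∀ (W : D) (q : ℕ), Subsingleton (CohSite.HU F (q + 1) (u.obj W))) (V : D) (q : ℕ) :
    Subsingleton (CohSite.HU ((CohSite.push J K u).obj F) (q + 1) V) := by
  let R := injectiveResolution F
  haveI : (CohSite.push J K u).IsRightAdjoint := (u.sheafAdjunctionContinuous AddCommGrpCat.{u} K J).isRightAdjoint
  haveI : PreservesFiniteLimits (CohSite.push J K u) := inferInstance
  obtain ⟨R', hR'⟩ := Lead.Flasque.ExtCompute.nonempty_mapResolution R (CohSite.push J K u)
    (fun I hI => @injective_push _ _ _ _ J K u _ _ I hI) (fun n => isZero_Rpush_of_acyclic K u F n fun W => hF W n)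
  rw [subsingleton_HU_iff R']
  obtain @⟨c', inj, hh, ι', qi⟩ := R'
  subst hR'
  exact (subsingleton_HU_iff R (u.obj V) q).1 (hF V q)

end Groth.Agent.Lead.SiteCoh
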