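import Groth.Prelude.Def_CechEdge
import Mathlib.CategoryTheory.Limits.Shapes.ConcreteCategory
import Mathlib.CategoryTheory.Abelian.Injective.Basic

/-!
Cochains of the Čech complex of a family on a site, evaluated on tuples, and acyclicity for injective presheaves.
-/

set_option autoImplicit false

open CategoryTheory Limits Opposite

universe u

namespace Groth.Agent.Lead.SiteCoh.Cech

variable {C : Type u} [SmallCategory C] [HasPullbacks C] {U : C} {ι : Type u} (Y : ι → Over U)
  (P : Cᵒᵖ ⥤ AddCommGrpCat.{u})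

/-- tuples of maps to the members -/
abbrev Tup (V : C) (n : ℕ) : Type u := Fin (n + 1) → Σ i, V ⟶ (Y i).left

variable {Y} {V : C} {n : ℕ}

/-- the maps lie over one map to `U` -/
def Comp (t : Tup Y V n) : Prop := ∀ j, (t j).2 ≫ (Y (t j).1).hom = (t 0).2 ≫ (Y (t 0).1).hom

/-- the indices of a tuple -/
abbrev idx (t : Tup Y V n) : Fin (n + 1) → ι := fun j => (t j).1

variable (Y) in
/-- the iterated fibre product -/
noncomputable abbrev Z (a : Fin (n + 1) → ι) : Over U := ∏ᶜ fun j => Y (a j)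

/-- the map to the fibre product given by a tuple -/
noncomputable def toZ (t : Tup Y V n) (h : Comp t) : V ⟶ (Z Y (idx t)).left :=
  (Pi.lift fun j => (Over.homMk (t j).2 (h j) : Over.mk ((t 0).2 ≫ (Y (t 0).1).hom) ⟶ Y (t j).1)).left

@[reassoc]
theorem toZ_π (t : Tup Y V n) (h : Comp t) (j : Fin (n + 1)) :
    toZ t h ≫ (Pi.π (fun j => Y (idx t j)) j).left = (t j).2 := by
  rw [toZ, ← Over.comp_left, Pi.lift_π]; rfl

theorem comp_Z (a : Fin (n + 1) → ι) {W : C} (k : W ⟶ (Z Y a).left) :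
    Comp (fun j => (⟨a j, k ≫ (Pi.π (fun j => Y (a j)) j).left⟩ : Σ i, W ⟶ (Y i).left)) := fun j => by
  simp [Category.assoc]

theorem hom_ext_Z {a : Fin (n + 1) → ι} {W : C} {k k' : W ⟶ (Z Y a).left}
    (h : ∀ j, k ≫ (Pi.π (fun j => Y (a j)) j).left = k' ≫ (Pi.π (fun j => Y (a j)) j).left) : k = k' := by
  have e : k ≫ (Z Y a).hom = k' ≫ (Z Y a).hom := by
    rw [← Over.w (Pi.π (fun j => Y (a j)) 0), ← Category.assoc, h 0, Category.assoc]
  exact congrArg CommaMorphism.left (show (Over.homMk k rfl : Over.mk (k ≫ (Z Y a).hom) ⟶ Z Y a) =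
    Over.homMk k' e.symm from Pi.hom_ext _ _ fun j => Over.OverMorphism.ext (h j))

variable (Y) in
/-- the projection of cochains to a component -/
noncomputable def proj (a : Fin (n + 1) → ι) : (CechEdge.cx P Y).X n ⟶ P.obj (op (Z Y a).left) :=
  Pi.π (fun a : Fin (n + 1) → ι => P.obj (op (Z Y a).left)) a

/-- evaluation of a cochain on a tuple -/
noncomputable def ev (t : Tup Y V n) (h : Comp t) : (CechEdge.cx P Y).X n ⟶ P.obj (op V) :=
  proj Y P (idx t) ≫ P.map (toZ t h).op

theorem ev_congr {t t' : Tup Y V n} (h : Comp t) (e : t = t') : ev P t h = ev P t' (e ▸ h) := by subst e; rfl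

theorem ev_univ (a : Fin (n + 1) → ι) : ev P (fun j => ⟨a j, 𝟙 _ ≫ (Pi.π (fun j => Y (a j)) j).left⟩)
    (comp_Z a (𝟙 (Z Y a).left)) = proj Y P a := by
  have : toZ _ (comp_Z a (𝟙 (Z Y a).left)) = 𝟙 (Z Y a).left := hom_ext_Z fun j => toZ_π _ _ j
  rw [ev, this, op_id, P.map_id, Category.comp_id]

theorem ext_proj {x y : (CechEdge.cx P Y).X n} (h : ∀ a, proj Y P a x = proj Y P a y) : x = y :=
  Concrete.Pi.map_ext (fun a : Fin (n + 1) → ι => P.obj (op (Z Y a).left)) (forget AddCommGrpCat.{u}) x y h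

/-- a cochain from its components -/
noncomputable def mk (φ : ∀ a : Fin (n + 1) → ι, P.obj (op (Z Y a).left)) : (CechEdge.cx P Y).X n :=
  (Concrete.productEquiv (fun a : Fin (n + 1) → ι => P.obj (op (Z Y a).left))).symm φ

theorem proj_mk (φ : ∀ a : Fin (n + 1) → ι, P.obj (op (Z Y a).left)) (a) : proj Y P a (mk P φ) = φ a :=
  Concrete.productEquiv_symm_apply_π _ φ a

/-- deleting one entry -/
def del (i : Fin (n + 2)) (t : Tup Y V (n + 1)) : Tup Y V n := fun j => t (i.succAbove j)

omit [HasPullbacks C] in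
theorem comp_del {t : Tup Y V (n + 1)} (h : Comp t) (i : Fin (n + 2)) : Comp (del i t) := fun j =>
  (h _).trans (h _).symm

omit [HasPullbacks C] in
theorem comp_restrict {t : Tup Y V n} (h : Comp t) {W : C} (k : W ⟶ V) :
    Comp (fun j => (⟨(t j).1, k ≫ (t j).2⟩ : Σ i, W ⟶ (Y i).left)) := fun j => by
  simp only [Category.assoc, h j]

theorem map_ev (t : Tup Y V n) (h : Comp t) {W : C} (k : W ⟶ V) :
    ev P t h ≫ P.map k.op = ev P _ (comp_restrict h k) := by
  simp only [ev, Category.assoc, ← P.map_comp, ← op_comp]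
  congr 3
  refine hom_ext_Z fun j => ?_
  rw [Category.assoc, toZ_π]
  exact (toZ_π _ (comp_restrict h k) j).symm

theorem d_comp_ev (t : Tup Y V (n + 1)) (h : Comp t) :
    (CechEdge.cx P Y).d n (n + 1) ≫ ev P t h =
      ∑ i : Fin (n + 2), (-1 : ℤ) ^ (i : ℕ) • ev P (del i t) (comp_del h i) := by
  simp only [CechEdge.cx, cechComplexFunctor, FormalCoproduct.cochainComplexFunctor, Functor.comp_obj,
    AlgebraicTopology.alternatingCofaceMapComplex, AlgebraicTopology.AlternatingCofaceMapComplex.obj,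
    CochainComplex.of_d, AlgebraicTopology.AlternatingCofaceMapComplex.objD, Preadditive.sum_comp,
    Preadditive.zsmul_comp]
  refine Finset.sum_congr rfl fun i _ => congrArg (((-1 : ℤ) ^ (i : ℕ)) • ·) ?_
  let l : Z Y (idx t) ⟶ Z Y (idx (del i t)) := Pi.lift fun j => Pi.π (fun j => Y (idx t j)) (i.succAbove j)
  have e : toZ (del i t) (comp_del h i) = toZ t h ≫ l.left := by
    refine hom_ext_Z fun j => ?_
    rw [Category.assoc, ← Over.comp_left, Pi.lift_π, toZ_π]
    exact (toZ_π t h _).symm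
  refine Eq.trans ?_ (congrArg (fun k => proj Y P (idx (del i t)) ≫ P.map (Quiver.Hom.op k)) e).symm
  rw [op_comp, P.map_comp, ← Category.assoc]
  refine (Category.assoc _ _ _).symm.trans (congrArg (· ≫ P.map (toZ t h).op) ?_)
  exact Pi.lift_π _ _

variable (Y) in
/-- the presheaf of families of sections over all objects mapping to an object -/
noncomputable def coneP : Cᵒᵖ ⥤ AddCommGrpCat.{u} where
  obj W := AddCommGrpCat.of (∀ V : C, (V ⟶ W.unop) → P.obj (op V))
  map k := AddCommGrpCat.ofHom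
    { toFun := fun φ V h => φ V (h ≫ k.unop)
      map_zero' := rfl
      map_add' := fun _ _ => rfl }
  map_id W := by ext φ V h; simp
  map_comp k l := by ext φ V h; simp

/-- the canonical embedding -/
noncomputable def toCone : P ⟶ coneP P where
  app W := AddCommGrpCat.ofHom
    { toFun := fun p V h => P.map h.op p
      map_zero' := by funext V h; exact map_zero _
      map_add' := fun p q => by funext V h; exact map_add _ p q }
  naturality W W' k := by
    ext p; funext V h
    show P.map h.op (P.map k p) = P.map (h ≫ k.unop).op p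
    rw [op_comp, P.map_comp]; rfl

omit [HasPullbacks C] in
theorem mono_toCone : Mono (toCone P) := by
  haveI : ∀ W, Mono ((toCone P).app W) := fun W => by
    rw [AddCommGrpCat.mono_iff_injective]
    intro p q e
    have := congrFun (congrFun e W.unop) (𝟙 _)
    change P.map (𝟙 W.unop).op p = P.map (𝟙 W.unop).op q at this
    simpa using this
  exact NatTrans.mono_of_mono_app _

variable (Y) in
/-- a chosen lift of a map to `U` -/
noncomputable def pickG (g : V ⟶ U) (h : Nonempty {e : Σ i, V ⟶ (Y i).left // e.2 ≫ (Y e.1).hom = g}) :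
    Σ i, V ⟶ (Y i).left := h.some.1

omit [HasPullbacks C] in
theorem pickG_spec (g : V ⟶ U) (h) : (pickG Y g h).2 ≫ (Y (pickG Y g h).1).hom = g := h.some.2

/-- the chosen lift for a tuple -/
noncomputable def pick (t : Tup Y V n) : Σ i, V ⟶ (Y i).left :=
  pickG Y ((t 0).2 ≫ (Y (t 0).1).hom) ⟨⟨t 0, rfl⟩⟩

omit [HasPullbacks C] in
theorem pick_eq {m : ℕ} {t : Tup Y V n} {t' : Tup Y V m}
    (e : (t 0).2 ≫ (Y (t 0).1).hom = (t' 0).2 ≫ (Y (t' 0).1).hom) : pick t = pick t' := by
  have : ∀ (g g' : V ⟶ U) (h h'), g = g' → pickG Y g h = pickG Y g' h' := by rintro g g' h h' rfl; rfl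
  exact this _ _ _ _ e

omit [HasPullbacks C] in
theorem comp_cons {t : Tup Y V n} (h : Comp t) : Comp (Fin.cons (pick t) t : Tup Y V (n + 1)) := by
  refine Fin.cases ?_ (fun j => ?_)
  · rfl
  · rw [Fin.cons_succ, Fin.cons_zero]
    exact (h j).trans (pickG_spec _ _).symm

/-- the contracting homotopy on cochains of a cone presheaf -/
noncomputable def htpy (x : (CechEdge.cx (coneP P) Y).X (n + 1)) : (CechEdge.cx (coneP P) Y).X n :=
  mk (coneP P) fun a V k => ev (coneP P) _ (comp_cons (comp_Z a k)) x V (𝟙 V)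

theorem ev_htpy (x : (CechEdge.cx (coneP P) Y).X (n + 1)) (t : Tup Y V n) (h : Comp t) :
    ev (coneP P) t h (htpy P x) V (𝟙 V) = ev (coneP P) _ (comp_cons h) x V (𝟙 V) := by
  show proj Y (coneP P) (idx t) (htpy P x) V (𝟙 V ≫ toZ t h) = _
  rw [htpy, proj_mk, Category.id_comp]
  have e : (fun j => (⟨idx t j, toZ t h ≫ (Pi.π (fun j => Y (idx t j)) j).left⟩ : Σ i, V ⟶ (Y i).left)) = t :=
    funext fun j => by rw [toZ_π]
  exact congrArg (fun f => f x V (𝟙 V)) (ev_congr (coneP P) _ (congrArg (fun t => (Fin.cons (pick t) t : Tup Y V (n + 1))) e))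

theorem proj_apply (x : (CechEdge.cx (coneP P) Y).X n) (a : Fin (n + 1) → ι) (k : V ⟶ (Z Y a).left) :
    proj Y (coneP P) a x V k = ev (coneP P) _ (comp_Z a k) x V (𝟙 V) := by
  have : toZ _ (comp_Z a k) = k := hom_ext_Z fun j => toZ_π _ _ j
  show _ = proj Y (coneP P) a x V (𝟙 V ≫ _)
  rw [this, Category.id_comp]; rfl

omit [HasPullbacks C] in
theorem del_cons_zero (e : Σ i, V ⟶ (Y i).left) (t : Tup Y V n) : del 0 (Fin.cons e t) = t := by
  funext j; simp [del]

omit [HasPullbacks C] in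
theorem del_cons_succ (e : Σ i, V ⟶ (Y i).left) (t : Tup Y V (n + 1)) (i : Fin (n + 2)) :
    del i.succ (Fin.cons e t) = Fin.cons e (del i t) := by
  funext j
  cases j using Fin.cases with
  | zero => simp [del]
  | succ j => simp [del]

theorem ev_d (x : (CechEdge.cx (coneP P) Y).X n) (t : Tup Y V (n + 1)) (h : Comp t) :
    ev (coneP P) t h ((CechEdge.cx (coneP P) Y).d n (n + 1) x) V (𝟙 V) =
      ∑ i : Fin (n + 2), (-1 : ℤ) ^ (i : ℕ) • ev (coneP P) (del i t) (comp_del h i) x V (𝟙 V) := by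
  let φ : ((CechEdge.cx (coneP P) Y).X n ⟶ (coneP P).obj (op V)) →+ P.obj (op V) :=
    AddMonoidHom.mk' (fun f => f x V (𝟙 V)) (fun _ _ => rfl)
  exact (congrArg φ (d_comp_ev (coneP P) t h)).trans
    ((map_sum φ _ _).trans (Finset.sum_congr rfl fun i _ => map_zsmul φ _ _))

theorem d_htpy (x : (CechEdge.cx (coneP P) Y).X (n + 1))
    (hx : (CechEdge.cx (coneP P) Y).d (n + 1) (n + 2) x = 0) :
    (CechEdge.cx (coneP P) Y).d n (n + 1) (htpy P x) = x := by
  refine ext_proj _ fun a => ?_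
  funext V k
  rw [proj_apply, proj_apply]
  obtain ⟨t, h, ht⟩ : ∃ (t : Tup Y V (n + 1)) (h : Comp t),
      ev (coneP P) _ (comp_Z a k) = ev (coneP P) t h := ⟨_, comp_Z a k, rfl⟩
  rw [ht]
  have h1 := ev_d P x (Fin.cons (pick t) t) (comp_cons h)
  rw [hx, map_zero, Fin.sum_univ_succ, ev_congr _ _ (del_cons_zero (pick t) t)] at h1
  simp only [Fin.val_zero, pow_zero, one_smul] at h1
  have e0 := eq_neg_of_add_eq_zero_left h1.symm
  rw [ev_d P (htpy P x) t h, e0, ← Finset.sum_neg_distrib]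
  refine Finset.sum_congr rfl fun i _ => ?_
  rw [ev_htpy, ev_congr _ _ (del_cons_succ (pick t) t i)]
  simp only [Fin.val_succ, pow_succ, mul_neg, mul_one, neg_smul, neg_neg]
  refine congrArg (((-1 : ℤ) ^ (i : ℕ)) • ·) ?_
  have e : pick (del i t) = pick t := pick_eq (h (i.succAbove 0))
  exact congrArg (fun f => f x V (𝟙 V))
    (ev_congr (coneP P) _ (congrArg (fun e => (Fin.cons e (del i t) : Tup Y V (n + 1))) e))

theorem isZero_cechH_coneP (p : ℕ) : IsZero (CohCx.cechH (coneP P) Y (p + 1)) := by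
  rw [← HomologicalComplex.exactAt_iff_isZero_homology,
    HomologicalComplex.exactAt_iff' _ p (p + 1) (p + 2) (by simp) (by simp), ShortComplex.ab_exact_iff]
  exact fun x hx => ⟨htpy P x, d_htpy P x hx⟩

/-- Čech cohomology of injective presheaves vanishes in positive degrees -/
theorem isZero_cechH_of_injective (Y : ι → Over U) [Injective P] (p : ℕ) :
    IsZero (CohCx.cechH P Y (p + 1)) := by
  haveI := mono_toCone P
  let r : coneP P ⟶ P := Injective.factorThru (𝟙 P) (toCone P)
  let G : (Cᵒᵖ ⥤ AddCommGrpCat.{u}) ⥤ AddCommGrpCat.{u} :=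
    CechEdge.cxFunctor Y ⋙ HomologicalComplex.homologyFunctor _ _ (p + 1)
  haveI : Mono (G.map (toCone P)) := SplitMono.mono ⟨G.map r, by
    rw [← G.map_comp, Injective.comp_factorThru, G.map_id]⟩
  exact @IsZero.of_mono _ _ _ _ _ (G.map (toCone P)) this (isZero_cechH_coneP P p)

end Groth.Agent.Lead.SiteCoh.Cech
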