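import Groth.Agent.Lead.SiteCoh.CechSheaf

/-!
Cartan's criterion and acyclic coverings on a site.
-/

set_option autoImplicit false

open CategoryTheory Limits Opposite Abelian

universe u

namespace Groth.Agent.Lead.SiteCoh.Cech

variable {C : Type u} [SmallCategory C] [HasPullbacks C] {J : GrothendieckTopology C}

/-- an embedding into an injective sheaf -/
noncomputable abbrev injS (F : Sheaf J AddCommGrpCat.{u}) : ShortComplex (Sheaf J AddCommGrpCat.{u}) :=
  ShortComplex.mk (Injective.ι F) (cokernel.π (Injective.ι F)) (cokernel.condition _)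

omit [HasPullbacks C] in
theorem shortExact_injS (F : Sheaf J AddCommGrpCat.{u}) : (injS F).ShortExact :=
  ShortComplex.ShortExact.mk' (ShortComplex.exact_of_g_is_cokernel _ (cokernelIsCokernel _))
    (inferInstance : Mono (Injective.ι F)) (inferInstance : Epi (cokernel.π (Injective.ι F)))

theorem isZero_cechH_injective (I : Sheaf J AddCommGrpCat.{u}) [Injective I] {U : C} {ι : Type u} (Y : ι → Over U)
    (p : ℕ) : IsZero (CohCx.cechH I.obj Y (p + 1)) := by
  haveI : Injective I.obj :=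
    CategoryTheory.Injective.injective_of_adjoint (sheafificationAdjunction J AddCommGrpCat.{u}) I
  exact isZero_cechH_of_injective I.obj Y p

/-- Cartan's criterion -/
theorem subsingleton_HU_of_cechAcyclic (B : Set C) (Cov : ∀ (U : C) (ι : Type u), (ι → Over U) → Prop)
    (h1 : ∀ (U : C) (ι : Type u) (Y : ι → Over U), Cov U ι Y → U ∈ B ∧
      Sieve.ofArrows (fun i => (Y i).left) (fun i => (Y i).hom) ∈ J U ∧
      ∀ (p : ℕ) (a : Fin (p + 1) → ι), (∏ᶜ fun k => Y (a k)).left ∈ B)
    (h2 : ∀ U ∈ B, ∀ T ∈ J U, ∃ (ι : Type u) (Y : ι → Over U), Cov U ι Y ∧ ∀ i, T.arrows (Y i).hom) :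
    ∀ (p : ℕ) (F : Sheaf J AddCommGrpCat.{u}),
      (∀ (U : C) (ι : Type u) (Y : ι → Over U), Cov U ι Y → ∀ p : ℕ, IsZero (CohCx.cechH F.obj Y (p + 1))) →
      ∀ U ∈ B, Subsingleton (CohSite.HU F (p + 1) U) := by
  have hsurj : ∀ (F : Sheaf J AddCommGrpCat.{u}),
      (∀ (U : C) (ι : Type u) (Y : ι → Over U), Cov U ι Y → ∀ p : ℕ, IsZero (CohCx.cechH F.obj Y (p + 1))) →
      ∀ U ∈ B, Function.Surjective ((injS F).g.hom.app (op U)) := fun F hF U hU =>
    surjective_of_cech (shortExact_injS F) fun T hT => by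
      obtain ⟨ι, Y, hY, hYT⟩ := h2 U hU T hT
      exact ⟨ι, Y, hYT, (h1 U ι Y hY).2.1, hF U ι Y hY 0⟩
  intro p
  induction p with
  | zero =>
    intro F hF U hU
    refine subsingleton_of_forall_eq 0 fun x => ?_
    have hS := shortExact_injS F
    haveI : Injective (injS F).X₂ := (inferInstance : Injective (Injective.under F))
    obtain ⟨x₃, rfl⟩ := Ext.covariant_sequence_exact₁ (CohCx.freeSheaf J U) hS x (Ext.eq_zero_of_injective _) (zero_add 1)
    obtain ⟨f, rfl⟩ := Ext.homEquiv₀.symm.surjective x₃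
    obtain ⟨s, hs⟩ := hsurj F hF U hU (freeEquiv U _ f)
    obtain ⟨g, rfl⟩ : ∃ g : CohCx.freeSheaf J U ⟶ (injS F).X₂, g ≫ (injS F).g = f :=
      ⟨(freeEquiv U _).symm s, (freeEquiv U _).injective (by rw [freeEquiv_comp, Equiv.apply_symm_apply, hs])⟩
    show (Ext.mk₀ (g ≫ (injS F).g)).comp hS.extClass _ = 0
    rw [← Ext.mk₀_comp_mk₀_assoc, hS.comp_extClass, Ext.comp_zero]
  | succ p ih =>
    intro F hF U hU
    refine subsingleton_of_forall_eq 0 fun x => ?_
    have hS := shortExact_injS F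
    haveI : Injective (injS F).X₂ := (inferInstance : Injective (Injective.under F))
    obtain ⟨x₃, rfl⟩ := Ext.covariant_sequence_exact₁ (CohCx.freeSheaf J U) hS x (Ext.eq_zero_of_injective _) (n₀ := p + 1) rfl
    have hQ : ∀ (V : C) (ι : Type u) (Y : ι → Over V), Cov V ι Y → ∀ q : ℕ,
        IsZero (CohCx.cechH (injS F).X₃.obj Y (q + 1)) := fun V ι Y hY q => by
      have hcx := shortExact_cx hS Y fun n a => hsurj F hF _ ((h1 V ι Y hY).2.2 n a)
      exact (hcx.homology_exact₃ (q + 1) (q + 2) rfl).isZero_of_both_zeros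
        ((isZero_cechH_injective (Injective.under F) Y q).eq_of_src _ _) ((hF V ι Y hY (q + 1)).eq_of_tgt _ _)
    haveI := ih (injS F).X₃ hQ U hU
    rw [show x₃ = 0 from Subsingleton.elim (α := CohSite.HU (injS F).X₃ (p + 1) U) x₃ 0, Ext.zero_comp]; rfl

end Groth.Agent.Lead.SiteCoh.Cech
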