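import Groth.Agent.Lead.SiteCoh.Cech
import Mathlib.CategoryTheory.Sites.Sheaf
import Mathlib.Algebra.Category.Grp.Limits

/-!
The degree zero Čech cohomology and the sheaf condition.
-/

set_option autoImplicit false

open CategoryTheory Limits Opposite

universe u

namespace Groth.Agent.Lead.SiteCoh.Cech

variable {C : Type u} [SmallCategory C] [HasPullbacks C] {U : C} {ι : Type u} (Y : ι → Over U)
  (P : Cᵒᵖ ⥤ AddCommGrpCat.{u})

variable {Y} in
theorem ev_d' {V : C} {n : ℕ} (w : (CechEdge.cx P Y).X n) (t : Tup Y V (n + 1)) (ht : Comp t) :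
    ev P t ht ((CechEdge.cx P Y).d n (n + 1) w) =
      ∑ i : Fin (n + 2), (-1 : ℤ) ^ (i : ℕ) • ev P (del i t) (comp_del ht i) w := by
  let χ : ((CechEdge.cx P Y).X n ⟶ P.obj (op V)) →+ P.obj (op V) := AddMonoidHom.mk' (fun f => f w) (fun _ _ => rfl)
  exact (congrArg χ (d_comp_ev P t ht)).trans
    ((map_sum χ _ _).trans (Finset.sum_congr rfl fun i _ => map_zsmul χ _ _))

theorem proj_toCech₀ (a : Fin 1 → ι) (s : P.obj (op U)) :
    proj Y P a (CechEdge.toCech₀ P Y s) = P.map (Z Y a).hom.op s :=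
  congrArg (fun f : P.obj (op U) ⟶ _ => f s) (Pi.lift_π (fun i : Fin 1 → ι => P.map (∏ᶜ (Y ∘ i)).hom.op) a)

/-- the one-tuple of a member -/
abbrev one (i : ι) : Tup Y (Y i).left 0 := fun _ => ⟨i, 𝟙 _⟩

omit [HasPullbacks C] in
theorem comp_one (i : ι) : Comp (one Y i) := fun _ => rfl

theorem ev_toCech₀ {V : C} (t : Tup Y V 0) (ht : Comp t) (s : P.obj (op U)) :
    ev P t ht (CechEdge.toCech₀ P Y s) = P.map ((t 0).2 ≫ (Y (t 0).1).hom).op s := by
  show P.map (toZ t ht).op (proj Y P (idx t) _) = _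
  rw [proj_toCech₀, ← ConcreteCategory.comp_apply, ← P.map_comp, ← op_comp]
  exact congrArg (fun k => P.map (Quiver.Hom.op k) s) (Over.w _)

theorem map_ev_one {V : C} (i : ι) (k : V ⟶ (Y i).left) (c : (CechEdge.cx P Y).X 0) :
    P.map k.op (ev P (one Y i) (comp_one Y i) c) = ev P (fun _ => ⟨i, k⟩) (fun _ => rfl) c :=
  (congrArg (fun f : _ ⟶ P.obj (op V) => f c) (map_ev P _ (comp_one Y i) k)).trans
    (congrArg (fun f : _ ⟶ P.obj (op V) => f c)
      (ev_congr _ (comp_restrict (comp_one Y i) k) (funext fun _ => congrArg (Sigma.mk i) (Category.comp_id k))))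

theorem proj_eq_map_ev_one (a : Fin 1 → ι) (c : (CechEdge.cx P Y).X 0) :
    proj Y P a c = P.map (Pi.π (fun j => Y (a j)) 0).left.op (ev P (one Y (a 0)) (comp_one Y (a 0)) c) := by
  rw [map_ev_one, ← ev_univ]
  exact congrArg (fun f : _ ⟶ P.obj (op (Z Y a).left) => f c) (ev_congr _ _ (funext fun j => by
    obtain rfl : j = 0 := Fin.fin_one_eq_zero j
    rw [Category.id_comp]))

theorem toCech₀_bijective
    (h : Presieve.IsSheafFor (P ⋙ forget AddCommGrpCat.{u})
      (Presieve.ofArrows (fun i => (Y i).left) (fun i => (Y i).hom))) :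
    Function.Injective (CechEdge.toCech₀ P Y) ∧
      ∀ c, (CechEdge.cx P Y).d 0 1 c = 0 → ∃ s, CechEdge.toCech₀ P Y s = c := by
  rw [Presieve.isSheafFor_arrows_iff] at h
  refine ⟨fun s s' e => ?_, fun c hc => ?_⟩
  · have key : ∀ s (i : ι), P.map (Y i).hom.op s = ev P (one Y i) (comp_one Y i) (CechEdge.toCech₀ P Y s) :=
      fun s i => by rw [ev_toCech₀, Category.id_comp]
    exact (h (fun i => P.map (Y i).hom.op s) (fun i j V gi gj e => by
      show P.map gi.op _ = P.map gj.op _
      rw [← ConcreteCategory.comp_apply, ← P.map_comp, ← ConcreteCategory.comp_apply, ← P.map_comp,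
        ← op_comp, ← op_comp, e])).unique (fun _ => rfl) (fun i => by
        show P.map (Y i).hom.op s' = _
        rw [key, key, e])
  · obtain ⟨s, hs, -⟩ := h (fun i => ev P (one Y i) (comp_one Y i) c) (fun i j V gi gj e => by
      show P.map gi.op _ = P.map gj.op _
      rw [map_ev_one, map_ev_one]
      let t : Tup Y V 1 := Fin.cons ⟨i, gi⟩ (fun _ => ⟨j, gj⟩)
      have ht : Comp t := fun k => by
        refine Fin.cases rfl (fun k => ?_) k
        exact e.symm
      have := ev_d' P c t ht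
      rw [hc, map_zero, Fin.sum_univ_two] at this
      simp only [Fin.val_zero, Fin.val_one, pow_zero, pow_one, one_smul, neg_smul] at this
      rw [ev_congr _ _ (show del 0 t = fun _ => ⟨j, gj⟩ from funext fun k => by fin_cases k; rfl),
        ev_congr _ _ (show del 1 t = fun _ => ⟨i, gi⟩ from funext fun k => by fin_cases k; rfl)] at this
      exact (eq_of_sub_eq_zero (by rw [sub_eq_add_neg]; exact this.symm)).symm)
    refine ⟨s, ext_proj _ fun a => ?_⟩
    rw [proj_toCech₀, proj_eq_map_ev_one, ← hs (a 0)]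
    show _ = P.map _ (P.map _ s)
    rw [← ConcreteCategory.comp_apply, ← P.map_comp, ← op_comp, Over.w]

theorem iCycles_injective : Function.Injective ((CechEdge.cx P Y).iCycles 0) :=
  (AddCommGrpCat.mono_iff_injective _).1 inferInstance

theorem iCycles_toCycles (s : P.obj (op U)) :
    (CechEdge.cx P Y).iCycles 0 (CechEdge.toCycles P Y s) = CechEdge.toCech₀ P Y s :=
  congrArg (fun f : P.obj (op U) ⟶ _ => f s) (CechEdge.toCycles_i P Y)

theorem toCech_bijective_iff :
    Function.Bijective (CechEdge.toCech Y P) ↔ Function.Bijective (CechEdge.toCycles P Y) :=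
  (Function.Bijective.of_comp_iff' (f := (CechEdge.cx P Y).homologyπ 0)
    (by exact (ConcreteCategory.isIso_iff_bijective _).1 inferInstance) (CechEdge.toCycles P Y))

theorem toCech_bijective
    (h : Presieve.IsSheafFor (P ⋙ forget AddCommGrpCat.{u})
      (Presieve.ofArrows (fun i => (Y i).left) (fun i => (Y i).hom))) :
    Function.Bijective (CechEdge.toCech Y P) := by
  obtain ⟨hi, hs⟩ := toCech₀_bijective Y P h
  refine (toCech_bijective_iff Y P).2 ⟨fun s s' e => hi ?_, fun z => ?_⟩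
  · rw [← iCycles_toCycles, ← iCycles_toCycles, e]
  · obtain ⟨s, hs'⟩ := hs ((CechEdge.cx P Y).iCycles 0 z)
      (congrArg (fun f : (CechEdge.cx P Y).cycles 0 ⟶ _ => f z) ((CechEdge.cx P Y).iCycles_d 0 1))
    exact ⟨s, iCycles_injective Y P ((iCycles_toCycles Y P s).trans hs')⟩

theorem isSheafFor_of_toCech_bijective (h : Function.Bijective (CechEdge.toCech Y P)) :
    Presieve.IsSheafFor (P ⋙ forget AddCommGrpCat.{u})
      (Presieve.ofArrows (fun i => (Y i).left) (fun i => (Y i).hom)) := by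
  rw [toCech_bijective_iff] at h
  rw [Presieve.isSheafFor_arrows_iff]
  intro y hy
  let c : (CechEdge.cx P Y).X 0 := mk P fun a => P.map (Pi.π (fun j => Y (a j)) 0).left.op (y (a 0))
  have hev : ∀ {V : C} (t : Tup Y V 0) (ht : Comp t), ev P t ht c = P.map (t 0).2.op (y (t 0).1) := fun t ht => by
    show P.map (toZ t ht).op (proj Y P (idx t) c) = _
    rw [proj_mk, ← ConcreteCategory.comp_apply, ← P.map_comp, ← op_comp, toZ_π]
  have hc : (CechEdge.cx P Y).d 0 1 c = 0 := by
    refine ext_proj _ fun a => ?_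
    rw [map_zero, ← ev_univ, ev_d', Fin.sum_univ_two, hev, hev]
    simp only [Fin.val_zero, Fin.val_one, pow_zero, pow_one, one_smul, neg_smul, del]
    rw [← sub_eq_add_neg, sub_eq_zero]
    exact hy _ _ _ _ _ (by simp only [Category.assoc, Over.w])
  obtain ⟨z, hz⟩ : ∃ z, (CechEdge.cx P Y).iCycles 0 z = c :=
    (ShortComplex.ab_exact_iff (ShortComplex.mk _ _ ((CechEdge.cx P Y).iCycles_d 0 1))).1
      (ShortComplex.exact_of_f_is_kernel _ ((CechEdge.cx P Y).cyclesIsKernel 0 1 (by simp))) c hc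
  obtain ⟨s, hs⟩ := h.2 z
  have key : ∀ s' : P.obj (op U), (∀ i, P.map (Y i).hom.op s' = y i) ↔ CechEdge.toCycles P Y s' = z := fun s' => by
    rw [← (iCycles_injective Y P).eq_iff, iCycles_toCycles, hz]
    refine ⟨fun e => ext_proj _ fun a => ?_, fun e i => ?_⟩
    · rw [proj_toCech₀, proj_mk, ← e (a 0), ← ConcreteCategory.comp_apply, ← P.map_comp, ← op_comp, Over.w]
    · have := hev (one Y i) (comp_one Y i)
      rw [← e, ev_toCech₀, Category.id_comp] at this
      exact this.trans (by simp)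
  exact ⟨s, (key s).2 hs, fun s' hs' => h.1 (((key s').1 hs').trans hs.symm)⟩

/-- naturality of the restriction to the members -/
theorem toCech_naturality {Q : Cᵒᵖ ⥤ AddCommGrpCat.{u}} (φ : P ⟶ Q) (s : P.obj (op U)) :
    CechEdge.cechHMap Y φ 0 (CechEdge.toCech Y P s) = CechEdge.toCech Y Q (φ.app (op U) s) := by
  have e : CechEdge.toCycles P Y ≫ HomologicalComplex.cyclesMap ((CechEdge.cxFunctor Y).map φ) 0 =
      φ.app (op U) ≫ CechEdge.toCycles Q Y := by
    rw [← cancel_mono ((CechEdge.cx Q Y).iCycles 0)]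
    refine (Category.assoc _ _ _).trans ((congrArg (CechEdge.toCycles P Y ≫ ·)
      (HomologicalComplex.cyclesMap_i ((CechEdge.cxFunctor Y).map φ) 0)).trans ?_)
    refine Eq.trans ?_ ((Category.assoc _ _ _).trans (congrArg (φ.app (op U) ≫ ·) (CechEdge.toCycles_i Q Y))).symm
    refine (Category.assoc _ _ _).symm.trans ((congrArg (· ≫ _) (CechEdge.toCycles_i P Y)).trans ?_)
    ext s
    refine ext_proj _ fun a => ?_
    have hn : proj Y Q a (((CechEdge.cxFunctor Y).map φ).f 0 (CechEdge.toCech₀ P Y s)) =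
        φ.app _ (proj Y P a (CechEdge.toCech₀ P Y s)) :=
      congrArg (fun f : (CechEdge.cx P Y).X 0 ⟶ _ => f (CechEdge.toCech₀ P Y s)) (Pi.map_π
        (fun b : Fin 1 → ι => φ.app (op (Z Y b).left)) a)
    refine hn.trans ?_
    show _ = proj Y Q a (CechEdge.toCech₀ Q Y (φ.app (op U) s))
    rw [proj_toCech₀, proj_toCech₀, NatTrans.naturality_apply]
  have e2 := HomologicalComplex.homologyπ_naturality ((CechEdge.cxFunctor Y).map φ) 0
  refine (congrArg (fun f : (CechEdge.cx P Y).cycles 0 ⟶ CohCx.cechH Q Y 0 => f (CechEdge.toCycles P Y s)) e2).trans ?_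
  exact congrArg (fun f : P.obj (op U) ⟶ (CechEdge.cx Q Y).cycles 0 => (CechEdge.cx Q Y).homologyπ 0 (f s)) e

end Groth.Agent.Lead.SiteCoh.Cech
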