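import Groth.Agent.Lead.SiteCoh.CechAcyc
import Groth.Prelude.Def_CohSite
import Mathlib.CategoryTheory.Limits.Preserves.Shapes.Products
import Mathlib.CategoryTheory.Limits.Constructions.Over.Products

/-!
Čech cohomology and functors preserving fibre products.
-/

set_option autoImplicit false

open CategoryTheory Limits Opposite

universe u

namespace Groth.Agent.Lead.SiteCoh.Cech

variable {C D : Type u} [SmallCategory C] [SmallCategory D] [HasPullbacks C] [HasPullbacks D] (u : C ⥤ D)
  [PreservesLimitsOfShape WalkingCospan u] {U : C}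

instance : PreservesFiniteProducts (Over.post (X := U) u) := by
  haveI : PreservesLimitsOfShape (Discrete WalkingPair) (Over.post (X := U) u) := by
    refine ⟨fun {K} => ?_⟩
    suffices h : ∀ A B : Over U, PreservesLimit (pair A B) (Over.post (X := U) u) by
      haveI := h (K.obj ⟨.left⟩) (K.obj ⟨.right⟩)
      exact preservesLimit_of_iso_diagram _ (diagramIsoPair K).symm
    intro A B
    refine preservesLimit_of_preserves_limit_cone (prodIsProd A B) ?_
    refine (isLimitMapConeBinaryFanEquiv _ prod.fst prod.snd).symm ?_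
    have hp := (Over.isPullback_of_binaryFan_isLimit (BinaryFan.mk (prod.fst : A ⨯ B ⟶ A) prod.snd) (prodIsProd A B)).map u
    refine BinaryFan.IsLimit.mk _ (fun {T} f g => Over.homMk (hp.lift f.left g.left ((Over.w f).trans (Over.w g).symm))
      (by
        show _ ≫ u.map (A ⨯ B).hom = T.hom
        rw [← Over.w (prod.fst : A ⨯ B ⟶ A), u.map_comp]
        erw [hp.lift_fst_assoc]
        exact Over.w f)) (fun f g => Over.OverMorphism.ext (hp.lift_fst _ _ _))
      (fun f g => Over.OverMorphism.ext (hp.lift_snd _ _ _)) (fun {T} f g m h1 h2 => Over.OverMorphism.ext ?_)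
    exact hp.hom_ext ((congrArg CommaMorphism.left h1).trans (hp.lift_fst _ _ _).symm)
      ((congrArg CommaMorphism.left h2).trans (hp.lift_snd _ _ _).symm)
  haveI : PreservesLimit (Functor.empty.{0} (Over U)) (Over.post (X := U) u) :=
    preservesTerminal_of_iso _ (((Over.post (X := U) u).mapIso (terminalIsTerminal.uniqueUpToIso Over.mkIdTerminal)) ≪≫
      (Over.isoMk (Iso.refl _) ((Category.id_comp _).trans (u.map_id U).symm) : (Over.post (X := U) u).obj (Over.mk (𝟙 U)) ≅ Over.mk (𝟙 (u.obj U))) ≪≫ Over.mkIdTerminal.uniqueUpToIso terminalIsTerminal)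
  haveI : PreservesLimitsOfShape (Discrete PEmpty.{1}) (Over.post (X := U) u) :=
    preservesLimitsOfShape_pempty_of_preservesTerminal _
  exact PreservesFiniteProducts.of_preserves_binary_and_terminal _

variable {ι : Type u} (Y : ι → Over U) (P : Dᵒᵖ ⥤ AddCommGrpCat.{u})

/-- the transported family -/
abbrev mapFam : ι → Over (u.obj U) := fun i => (Over.post (X := U) u).obj (Y i)

/-- the image of an iterated fibre product -/
noncomputable def zIso {n : ℕ} (a : Fin (n + 1) → ι) :
    u.obj (Z Y a).left ≅ (Z (mapFam u Y) a).left :=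
  (Over.forget _).mapIso (PreservesProduct.iso (Over.post (X := U) u) fun j => Y (a j))

@[reassoc]
theorem zIso_hom_π {n : ℕ} (a : Fin (n + 1) → ι) (j : Fin (n + 1)) :
    (zIso u Y a).hom ≫ (Pi.π (fun j => mapFam u Y (a j)) j).left = u.map (Pi.π (fun j => Y (a j)) j).left :=
  congrArg CommaMorphism.left (piComparison_comp_π (Over.post (X := U) u) (fun j => Y (a j)) j)

theorem nonempty_cosimplicialIso :
    Nonempty ((FormalCoproduct.cosimplicialObjectFunctor (FormalCoproduct.mk _ Y).cech).obj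
        ((Over.forget U).op ⋙ u.op ⋙ P) ≅
      (FormalCoproduct.cosimplicialObjectFunctor (FormalCoproduct.mk _ (mapFam u Y)).cech).obj
        ((Over.forget (u.obj U)).op ⋙ P)) := by
  refine ⟨NatIso.ofComponents
    (fun n => Limits.Pi.mapIso fun a : Fin (n.len + 1) → ι => P.mapIso (zIso u Y a).symm.op)
    (fun {m n} θ => ?_)⟩
  refine Pi.hom_ext _ _ fun a => ?_
  ext w
  let G₁ := (FormalCoproduct.cosimplicialObjectFunctor (FormalCoproduct.mk _ Y).cech).obj ((Over.forget U).op ⋙ u.op ⋙ P)
  let G₂ := (FormalCoproduct.cosimplicialObjectFunctor (FormalCoproduct.mk _ (mapFam u Y)).cech).obj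
    ((Over.forget (u.obj U)).op ⋙ P)
  have e1 : ∀ (k : SimplexCategory) (v : G₁.obj k) (b : Fin (k.len + 1) → ι),
      Pi.π (fun b : Fin (k.len + 1) → ι => P.obj (op (Z (mapFam u Y) b).left)) b
          ((Limits.Pi.mapIso fun b : Fin (k.len + 1) → ι => P.mapIso (zIso u Y b).symm.op).hom v) =
        P.map (zIso u Y b).inv.op
          (Pi.π (fun b : Fin (k.len + 1) → ι => P.obj (op (u.obj (Z Y b).left))) b v) := fun k v b =>
    congrArg (fun f : G₁.obj k ⟶ _ => f v)
      (Pi.map_π (fun b : Fin (k.len + 1) → ι => (P.mapIso (zIso u Y b).symm.op).hom) b)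
  have hm : ∀ (v : G₁.obj m), Pi.π (fun b : Fin (n.len + 1) → ι => P.obj (op (u.obj (Z Y b).left))) a (G₁.map θ v) =
      P.map (u.map (((FormalCoproduct.mk _ Y).cech.map θ.op).φ a).left).op
        (Pi.π (fun b : Fin (m.len + 1) → ι => P.obj (op (u.obj (Z Y b).left)))
          (((FormalCoproduct.mk _ Y).cech.map θ.op).f a) v) := fun v =>
    congrArg (fun f : G₁.obj m ⟶ _ => f v) (Pi.lift_π _ a)
  have hm₂ : ∀ (v : G₂.obj m), Pi.π (fun b : Fin (n.len + 1) → ι => P.obj (op (Z (mapFam u Y) b).left)) a (G₂.map θ v) =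
      P.map (((FormalCoproduct.mk _ (mapFam u Y)).cech.map θ.op).φ a).left.op
        (Pi.π (fun b : Fin (m.len + 1) → ι => P.obj (op (Z (mapFam u Y) b).left))
          (((FormalCoproduct.mk _ (mapFam u Y)).cech.map θ.op).f a) v) := fun v =>
    congrArg (fun f : G₂.obj m ⟶ _ => f v) (Pi.lift_π _ a)
  refine (e1 n _ a).trans ((congrArg _ (hm w)).trans ?_)
  refine Eq.trans ?_ (hm₂ _).symm
  refine Eq.trans ?_ (congrArg _ (e1 m w _)).symm
  have two : ∀ {A B B' E : Dᵒᵖ} (f : A ⟶ B) (g : B ⟶ E) (f' : A ⟶ B') (g' : B' ⟶ E) (z : P.obj A),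
      g.unop ≫ f.unop = g'.unop ≫ f'.unop → P.map g (P.map f z) = P.map g' (P.map f' z) := fun f g f' g' z h => by
    rw [← ConcreteCategory.comp_apply, ← P.map_comp, ← ConcreteCategory.comp_apply, ← P.map_comp]
    exact congrArg (fun k => P.map k z) (Quiver.Hom.unop_inj h)
  refine two _ _ _ _ _ ?_
  show (zIso u Y a).inv ≫ u.map _ = (((FormalCoproduct.mk _ (mapFam u Y)).cech.map θ.op).φ a).left ≫ (zIso u Y _).inv
  refine (Iso.eq_comp_inv _).2 ((Category.assoc _ _ _).trans ((Iso.inv_comp_eq _).2 ?_))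
  refine hom_ext_Z fun j => ?_
  let e := θ.toOrderHom
  have l1 : (((FormalCoproduct.mk _ Y).cech.map θ.op).φ a).left ≫ (Pi.π (fun j => Y (a (e j))) j).left =
      (Pi.π (fun j => Y (a j)) (e j)).left := by
    rw [← Over.comp_left]; exact congrArg CommaMorphism.left (Pi.lift_π _ j)
  have l2 : (((FormalCoproduct.mk _ (mapFam u Y)).cech.map θ.op).φ a).left ≫ (Pi.π (fun j => mapFam u Y (a (e j))) j).left =
      (Pi.π (fun j => mapFam u Y (a j)) (e j)).left := by
    rw [← Over.comp_left]; exact congrArg CommaMorphism.left (Pi.lift_π _ j)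
  refine (Category.assoc _ _ _).trans ((congrArg (_ ≫ ·) (zIso_hom_π u Y (fun j => a (e j)) j)).trans ?_)
  refine (u.map_comp _ _).symm.trans ((congrArg u.map l1).trans ?_)
  refine Eq.trans ?_ ((Category.assoc _ _ _).trans (congrArg (_ ≫ ·) l2)).symm
  exact (zIso_hom_π u Y a (e j)).symm

/-- Čech cohomology of a restricted presheaf -/
theorem isZero_cechH_comp (p : ℕ) (h : IsZero (CohCx.cechH P (mapFam u Y) p)) :
    IsZero (CohCx.cechH (u.op ⋙ P) Y p) := by
  obtain ⟨i⟩ := nonempty_cosimplicialIso u Y P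
  exact h.of_iso ((HomologicalComplex.homologyFunctor AddCommGrpCat.{u} (ComplexShape.up ℕ) p).mapIso
    ((AlgebraicTopology.alternatingCofaceMapComplex AddCommGrpCat.{u}).mapIso i))

/-- sections of an injective sheaf along a functor preserving fibre products form an acyclic sheaf -/
theorem subsingleton_HU_push_injective (J : GrothendieckTopology C) (K : GrothendieckTopology D)
    [u.IsContinuous J K] (I : Sheaf K AddCommGrpCat.{u}) [Injective I] (p : ℕ) (V : C) :
    Subsingleton (CohSite.HU ((CohSite.push K J u).obj I) (p + 1) V) := by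
  refine subsingleton_HU_of_cechAcyclic Set.univ
    (fun W ι Y => Sieve.ofArrows (fun i => (Y i).left) (fun i => (Y i).hom) ∈ J W)
    (fun W ι Y hY => ⟨trivial, hY, fun _ _ => trivial⟩) ?_ p _ ?_ V trivial
  · intro W _ T hT
    let Y : (Σ Z : C, {f : Z ⟶ W // T f}) → Over W := fun i => Over.mk i.2.1
    refine ⟨_, Y, J.superset_covering ?_ hT, fun i => i.2.2⟩
    intro Z f hf
    exact ⟨Z, 𝟙 _, f, ⟨(⟨Z, f, hf⟩ : Σ Z : C, {f : Z ⟶ W // T f})⟩, Category.id_comp _⟩
  · intro W ι Y _ q
    exact isZero_cechH_comp u Y I.obj (q + 1) (isZero_cechH_injective I (mapFam u Y) q)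

end Groth.Agent.Lead.SiteCoh.Cech
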