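import Groth.Agent.Lead.SiteCoh.Cech
import Groth.Agent.Lead.SiteCoh.Basic
import Mathlib.Algebra.Homology.HomologySequence
import Mathlib.Algebra.Category.Grp.Limits

/-!
Čech cohomology of sheaves with respect to a covering family and short exact sequences.
-/

set_option autoImplicit false

open CategoryTheory Limits Opposite Abelian

universe u

namespace Groth.Agent.Lead.SiteCoh.Cech

variable {C : Type u} [SmallCategory C] {J : GrothendieckTopology C}
  {S : ShortComplex (Sheaf J AddCommGrpCat.{u})} (hS : S.ShortExact)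

include hS

theorem injective_app (W : C) : Function.Injective (S.f.hom.app (op W)) := by
  haveI := hS.mono_f
  haveI : Mono ((sheafToPresheaf J AddCommGrpCat.{u}).map S.f) := inferInstance
  haveI : Mono (S.f.hom.app (op W)) :=
    inferInstanceAs (Mono (((sheafToPresheaf J AddCommGrpCat.{u}).map S.f).app (op W)))
  exact (AddCommGrpCat.mono_iff_injective _).1 inferInstance

theorem exists_of_app_g_eq_zero (W : C) (y : S.X₂.obj.obj (op W)) (hy : S.g.hom.app (op W) y = 0) :
    ∃ z, S.f.hom.app (op W) z = y :=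
  (ShortComplex.ab_exact_iff _).1 (hS.exact.map_of_mono_of_preservesKernel
    (sheafToPresheaf J AddCommGrpCat.{u} ⋙ (evaluation _ _).obj (op W)) hS.mono_f inferInstance) y hy

/-- sections lift when the first cohomology of the kernel vanishes -/
theorem surjective_of_subsingleton (W : C) (h : Subsingleton (CohSite.HU S.X₁ 1 W)) :
    Function.Surjective (S.g.hom.app (op W)) := by
  intro φ
  haveI := h
  obtain ⟨x₂, hx₂⟩ := Ext.covariant_sequence_exact₃ _ hS (Ext.mk₀ ((freeEquiv W S.X₃).symm φ)) (zero_add 1)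
    (Subsingleton.elim (α := CohSite.HU S.X₁ 1 W) _ _)
  obtain ⟨l, rfl⟩ := Ext.homEquiv₀.symm.surjective x₂
  refine ⟨freeEquiv W S.X₂ l, ?_⟩
  have hl : l ≫ S.g = (freeEquiv W S.X₃).symm φ := (Ext.mk₀_bijective _ _).1 (by rw [← Ext.mk₀_comp_mk₀]; exact hx₂)
  rw [← freeEquiv_comp, hl, Equiv.apply_symm_apply]

variable [HasPullbacks C] {U : C}

theorem surjective_of_cech
    (h : ∀ T ∈ J U, ∃ (ι : Type u) (Y : ι → Over U), (∀ i, T.arrows (Y i).hom) ∧
      Sieve.ofArrows (fun i => (Y i).left) (fun i => (Y i).hom) ∈ J U ∧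
      IsZero (CohCx.cechH S.X₁.obj Y 1)) :
    Function.Surjective (S.g.hom.app (op U)) := by
  intro φ
  haveI := hS.epi_g
  haveI : Presheaf.IsLocallySurjective J S.g.hom :=
    (Sheaf.isLocallySurjective_iff_epi' (A := AddCommGrpCat.{u}) S.g).2 inferInstance
  obtain ⟨ι, Y, hT, hY, hz⟩ := h _ (Presheaf.imageSieve_mem J S.g.hom φ)
  choose y hy using hT
  let D : ∀ a : Fin 2 → ι, S.X₂.obj.obj (op (Z Y a).left) := fun a =>
    S.X₂.obj.map (Pi.π (fun j => Y (a j)) 0).left.op (y (a 0)) -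
      S.X₂.obj.map (Pi.π (fun j => Y (a j)) 1).left.op (y (a 1))
  have hD : ∀ a : Fin 2 → ι, S.g.hom.app _ (D a) = 0 := fun a => by
    have e : ∀ j, S.g.hom.app _ (S.X₂.obj.map (Pi.π (fun j => Y (a j)) j).left.op (y (a j))) =
        S.X₃.obj.map (Z Y a).hom.op φ := fun j => by
      rw [NatTrans.naturality_apply, hy, ← Over.w (Pi.π (fun j => Y (a j)) j), op_comp, S.X₃.obj.map_comp]
      rfl
    rw [map_sub, e, e, sub_self]
  choose z hz' using fun a => exists_of_app_g_eq_zero hS _ (D a) (hD a)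
  let x : (CechEdge.cx S.X₁.obj Y).X 1 := mk S.X₁.obj z
  have hx : ∀ {V : C} (t : Tup Y V 1) (ht : Comp t), S.f.hom.app (op V) (ev S.X₁.obj t ht x) =
      S.X₂.obj.map (t 0).2.op (y (t 0).1) - S.X₂.obj.map (t 1).2.op (y (t 1).1) := fun t ht => by
    show S.f.hom.app _ (S.X₁.obj.map (toZ t ht).op (proj Y S.X₁.obj (idx t) x)) = _
    rw [proj_mk, NatTrans.naturality_apply, hz', map_sub, ← toZ_π t ht 0, ← toZ_π t ht 1, op_comp, op_comp,
      S.X₂.obj.map_comp, S.X₂.obj.map_comp]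
    rfl
  have hev : ∀ {V : C} (n : ℕ) (w : (CechEdge.cx S.X₁.obj Y).X n) (t : Tup Y V (n + 1)) (ht : Comp t),
      ev S.X₁.obj t ht ((CechEdge.cx S.X₁.obj Y).d n (n + 1) w) =
        ∑ i : Fin (n + 2), (-1 : ℤ) ^ (i : ℕ) • ev S.X₁.obj (del i t) (comp_del ht i) w := fun {V} n w t ht => by
    let χ : ((CechEdge.cx S.X₁.obj Y).X n ⟶ S.X₁.obj.obj (op V)) →+ S.X₁.obj.obj (op V) :=
      AddMonoidHom.mk' (fun f => f w) (fun _ _ => rfl)
    exact (congrArg χ (d_comp_ev S.X₁.obj t ht)).trans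
      ((map_sum χ _ _).trans (Finset.sum_congr rfl fun i _ => map_zsmul χ _ _))
  have hdx : (CechEdge.cx S.X₁.obj Y).d 1 2 x = 0 := by
    refine ext_proj _ fun a => injective_app hS _ ?_
    rw [map_zero, map_zero, ← ev_univ, hev, map_sum, Fin.sum_univ_three, map_zsmul, map_zsmul, map_zsmul, hx, hx, hx]
    simp only [Fin.val_zero, Fin.val_one, Fin.val_two, pow_zero, pow_one, one_smul, neg_smul, even_two,
      Even.neg_pow, one_pow, del]
    let w : Fin 3 → S.X₂.obj.obj (op (Z Y a).left) := fun j =>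
      S.X₂.obj.map (𝟙 _ ≫ (Pi.π (fun j => Y (a j)) j).left).op (y (a j))
    show (w 1 - w 2) + -(w 0 - w 2) + (w 0 - w 1) = 0
    abel
  obtain ⟨c, hc⟩ : ∃ c, (CechEdge.cx S.X₁.obj Y).d 0 1 c = x :=
    (ShortComplex.ab_exact_iff _).1 ((HomologicalComplex.exactAt_iff' _ 0 1 2 (by simp) (by simp)).1
      ((HomologicalComplex.exactAt_iff_isZero_homology _ _).2 hz)) x hdx
  have hc1 : ∀ i : ι, Comp (fun _ : Fin 1 => (⟨i, 𝟙 _⟩ : Σ k, (Y i).left ⟶ (Y k).left)) := fun i j => rfl
  let y' : ∀ i : ι, S.X₂.obj.obj (op (Y i).left) := fun i => y i + S.f.hom.app _ (ev S.X₁.obj _ (hc1 i) c)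
  have hy' : ∀ i, S.g.hom.app _ (y' i) = S.X₃.obj.map (Y i).hom.op φ := fun i => by
    rw [map_add, hy, ← ConcreteCategory.comp_apply (S.f.hom.app _), ← NatTrans.comp_app,
      ← ObjectProperty.FullSubcategory.comp_hom, S.zero]
    simp
  have hsh : ∀ G : Sheaf J AddCommGrpCat.{u}, Presieve.IsSheafFor (G.obj ⋙ forget AddCommGrpCat.{u})
      (Presieve.ofArrows (fun i => (Y i).left) (fun i => (Y i).hom)) := fun G => by
    rw [Presieve.isSheafFor_iff_generate]
    exact ((isSheaf_iff_isSheaf_of_type _ _).1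
      ((sheafCompose J (forget AddCommGrpCat.{u})).obj G).property).isSheafFor _
        (by rw [Sieve.generate_sieve]; exact hY)
  have hcompat : Presieve.Arrows.Compatible (S.X₂.obj ⋙ forget AddCommGrpCat.{u}) (fun i => (Y i).hom) y' := by
    intro i j V gi gj e
    show S.X₂.obj.map gi.op (y' i) = S.X₂.obj.map gj.op (y' j)
    let t : Tup Y V 1 := Fin.cons ⟨i, gi⟩ (fun _ => ⟨j, gj⟩)
    have ht : Comp t := fun k => by
      refine Fin.cases rfl (fun k => ?_) k
      exact e.symm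
    have ecut : ∀ (k : ι) (gk : V ⟶ (Y k).left) (hk),
        S.X₂.obj.map gk.op (S.f.hom.app _ (ev S.X₁.obj _ (hc1 k) c)) =
          S.f.hom.app (op V) (ev S.X₁.obj (fun _ => ⟨k, gk⟩) hk c) := fun k gk hk => by
      rw [← NatTrans.naturality_apply]
      refine congrArg _ ((congrArg (fun f => f c) (map_ev S.X₁.obj _ (hc1 k) gk)).trans
        (congrArg (fun f : _ ⟶ S.X₁.obj.obj (op V) => f c)
          (ev_congr _ (comp_restrict (hc1 k) gk) (funext fun _ => congrArg (Sigma.mk k) (Category.comp_id gk)))))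
    have h1 : S.X₂.obj.map gi.op (y i) - S.X₂.obj.map gj.op (y j) =
        S.f.hom.app _ (ev S.X₁.obj (fun _ => ⟨j, gj⟩) (fun _ => rfl) c) -
          S.f.hom.app _ (ev S.X₁.obj (fun _ => ⟨i, gi⟩) (fun _ => rfl) c) := by
      refine (hx t ht).symm.trans ?_
      rw [← hc, hev, Fin.sum_univ_two, map_add, map_zsmul, map_zsmul]
      simp only [Fin.val_zero, Fin.val_one, pow_zero, pow_one, one_smul, neg_smul, ← sub_eq_add_neg]
      rw [ev_congr _ _ (show del 0 t = fun _ => ⟨j, gj⟩ from funext fun k => by fin_cases k; rfl),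
        ev_congr _ _ (show del 1 t = fun _ => ⟨i, gi⟩ from funext fun k => by fin_cases k; rfl)]
    rw [map_add, map_add, ecut i gi (fun _ => rfl), ecut j gj (fun _ => rfl), ← sub_eq_zero]
    calc _ = (S.X₂.obj.map gi.op (y i) - S.X₂.obj.map gj.op (y j)) -
        (S.f.hom.app _ (ev S.X₁.obj (fun _ => ⟨j, gj⟩) (fun _ => rfl) c) -
          S.f.hom.app _ (ev S.X₁.obj (fun _ => ⟨i, gi⟩) (fun _ => rfl) c)) := by abel
      _ = 0 := sub_eq_zero.2 h1
  obtain ⟨t, ht, -⟩ := (Presieve.isSheafFor_arrows_iff _ _).1 (hsh S.X₂) y' hcompat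
  refine ⟨t, ?_⟩
  have hφ : Presieve.Arrows.Compatible (S.X₃.obj ⋙ forget AddCommGrpCat.{u}) (fun i => (Y i).hom)
      (fun i => S.X₃.obj.map (Y i).hom.op φ) := fun i j V gi gj e => by
    show S.X₃.obj.map gi.op _ = S.X₃.obj.map gj.op _
    rw [← ConcreteCategory.comp_apply, ← S.X₃.obj.map_comp, ← ConcreteCategory.comp_apply, ← S.X₃.obj.map_comp,
      ← op_comp, ← op_comp, e]
  refine ((Presieve.isSheafFor_arrows_iff _ _).1 (hsh S.X₃) _ hφ).unique (fun i => ?_) (fun i => rfl)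
  refine Eq.trans (NatTrans.naturality_apply S.g.hom (Y i).hom.op t).symm ?_
  exact (congrArg _ (ht i)).trans (hy' i)

/-- the Čech complexes form a short exact sequence -/
theorem shortExact_cx {ι : Type u} (Y : ι → Over U)
    (hg : ∀ (n : ℕ) (a : Fin (n + 1) → ι), Function.Surjective (S.g.hom.app (op (Z Y a).left))) :
    ((S.map (sheafToPresheaf J AddCommGrpCat.{u})).map (CechEdge.cxFunctor Y)).ShortExact := by
  haveI := hS.mono_f
  refine HomologicalComplex.shortExact_of_degreewise_shortExact _ fun n => ?_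
  have hn : ∀ {P Q : Cᵒᵖ ⥤ AddCommGrpCat.{u}} (φ : P ⟶ Q) (w : (CechEdge.cx P Y).X n) (a : Fin (n + 1) → ι),
      proj Y Q a (((CechEdge.cxFunctor Y).map φ).f n w) = φ.app _ (proj Y P a w) := fun {P Q} φ w a =>
    congrArg (fun f : (CechEdge.cx P Y).X n ⟶ _ => f w) (Pi.map_π
      (fun b : Fin (n + 1) → ι => φ.app (op (Z Y b).left)) a)
  refine ShortComplex.ShortExact.mk' ?_ ?_ ?_
  · refine (ShortComplex.ab_exact_iff _).2 fun w hw => ?_
    choose z hz using fun a => exists_of_app_g_eq_zero hS _ (proj Y S.X₂.obj a w) (by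
      rw [← hn S.g.hom w a]; exact (congrArg (proj Y S.X₃.obj a) hw).trans (map_zero _))
    exact ⟨mk S.X₁.obj z, ext_proj _ fun a => ((hn S.f.hom _ a).trans ((congrArg _ (proj_mk _ z a)).trans (hz a)))⟩
  · refine (AddCommGrpCat.mono_iff_injective _).2 fun w w' e => ext_proj _ fun a => injective_app hS _ ?_
    exact (hn S.f.hom w a).symm.trans ((congrArg (proj Y S.X₂.obj a) e).trans (hn S.f.hom w' a))
  · refine (AddCommGrpCat.epi_iff_surjective _).2 fun w => ?_
    choose z hz using fun a => hg n a (proj Y S.X₃.obj a w)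
    exact ⟨mk S.X₂.obj z, ext_proj _ fun a => ((hn S.g.hom _ a).trans ((congrArg _ (proj_mk _ z a)).trans (hz a)))⟩

end Groth.Agent.Lead.SiteCoh.Cech
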