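import Groth.Agent.Lead.SiteCoh.Basic
import Mathlib.CategoryTheory.Sites.SheafOfTypes
import Mathlib.CategoryTheory.Abelian.Images

/-!
Acyclicity on objects and vanishing of presheaf cohomology of covering sieves.
-/

set_option autoImplicit false

open CategoryTheory Limits Opposite Abelian

universe u

namespace Groth.Agent.Lead.SiteCoh

variable {C : Type u} [SmallCategory C] (J : GrothendieckTopology C)

/-- sheaves as presheaves, seen as sheaves for the trivial topology -/
noncomputable def toBot : Sheaf J AddCommGrpCat.{u} ⥤ Sheaf (⊥ : GrothendieckTopology C) AddCommGrpCat.{u} :=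
  ObjectProperty.lift _ (sheafToPresheaf J AddCommGrpCat.{u}) fun _ => Presheaf.isSheaf_bot _

instance : (toBot J).Additive where

instance : PreservesFiniteLimits (toBot J) where
  preservesFiniteLimits L _ _ := by
    haveI : PreservesLimitsOfShape L (toBot J ⋙ sheafToPresheaf _ AddCommGrpCat.{u}) :=
      inferInstanceAs (PreservesLimitsOfShape L (sheafToPresheaf J AddCommGrpCat.{u}))
    exact preservesLimitsOfShape_of_reflects_of_preserves _ (sheafToPresheaf _ AddCommGrpCat.{u})

theorem injective_toBot (I : Sheaf J AddCommGrpCat.{u}) [Injective I] : Injective ((toBot J).obj I) := by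
  constructor
  intro A B g m _
  haveI : Mono m.hom := inferInstanceAs (Mono ((sheafToPresheaf _ AddCommGrpCat.{u}).map m))
  haveI : Mono ((presheafToSheaf J AddCommGrpCat.{u}).map m.hom) := inferInstance
  let adj := sheafificationAdjunction J AddCommGrpCat.{u}
  let g' := (adj.homEquiv A.obj I).symm g.hom
  refine ⟨⟨adj.homEquiv B.obj I (Injective.factorThru g' ((presheafToSheaf J AddCommGrpCat.{u}).map m.hom))⟩, ?_⟩
  apply ObjectProperty.hom_ext
  show m.hom ≫ adj.homEquiv B.obj I _ = g.hom
  rw [← adj.homEquiv_naturality_left, Injective.comp_factorThru, Equiv.apply_symm_apply]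

variable {J}

/-- maps from a free presheaf to the underlying presheaf of a sheaf -/
noncomputable def botEquiv (P : Cᵒᵖ ⥤ Type u) (G : Sheaf J AddCommGrpCat.{u}) :
    (freeP (J := (⊥ : GrothendieckTopology C)) P ⟶ (toBot J).obj G) ≃ (P ⟶ G.obj ⋙ forget AddCommGrpCat.{u}) :=
  setEquiv P ((toBot J).obj G)

theorem botEquiv_comp (P : Cᵒᵖ ⥤ Type u) {G G' : Sheaf J AddCommGrpCat.{u}}
    (g : freeP (J := (⊥ : GrothendieckTopology C)) P ⟶ (toBot J).obj G) (φ : G ⟶ G') :
    botEquiv P G' (g ≫ (toBot J).map φ) = botEquiv P G g ≫ Functor.whiskerRight φ.hom (forget AddCommGrpCat.{u}) :=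
  setEquiv_comp P g ((toBot J).map φ)

theorem botEquiv_zero_app (P : Cᵒᵖ ⥤ Type u) (G : Sheaf J AddCommGrpCat.{u}) (V : Cᵒᵖ) (i : P.obj V) :
    (botEquiv P G 0).app V i = (0 : G.obj.obj V) := by
  rw [← zero_comp (X := freeP (J := (⊥ : GrothendieckTopology C)) P) (f := (toBot J).map (0 : G ⟶ G))]
  rw [botEquiv_comp]
  rfl

theorem exists_section {X : C} {R : Sieve X} (hR : R ∈ J X) (G : Sheaf J AddCommGrpCat.{u})
    (s : R.functor ⟶ G.obj ⋙ forget AddCommGrpCat.{u}) :
    ∃! x : G.obj.obj (op X), R.functorInclusion ≫ yonedaEquiv.symm x = s := by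
  have h : Presieve.IsSheafFor (G.obj ⋙ forget AddCommGrpCat.{u}) R.arrows :=
    ((isSheaf_iff_isSheaf_of_type _ _).1 ((sheafCompose J (forget AddCommGrpCat.{u})).obj G).property).isSheafFor _ (by rwa [Sieve.generate_sieve])
  obtain ⟨g, hg, hu⟩ := Presieve.isSheafFor_iff_yonedaSheafCondition.1 h s
  refine ⟨yonedaEquiv g, ?_, fun x hx => ?_⟩
  · show R.functorInclusion ≫ yonedaEquiv.symm (yonedaEquiv g) = s
    rw [Equiv.symm_apply_apply]; exact hg
  · rw [← hu _ hx, Equiv.apply_symm_apply]

variable (F : Sheaf J AddCommGrpCat.{u})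

/-- presheaf cohomology of covering sieves vanishes -/
def SieveAcyclic : Prop :=
  ∀ (X : C) (R : Sieve X), R ∈ J X → ∀ q : ℕ,
    Subsingleton (Ext (freeP (J := (⊥ : GrothendieckTopology C)) R.functor) ((toBot J).obj F) (q + 1))

theorem sieveAcyclic_of_acyclic (hF : ∀ (X : C) (q : ℕ), Subsingleton (CohSite.HU F (q + 1) X)) : SieveAcyclic F := by
  intro X R hR q
  let I := injectiveResolution F
  obtain ⟨I', hI'⟩ := Lead.Flasque.ExtCompute.nonempty_mapResolution I (toBot J) (fun K hK => @injective_toBot _ _ J K hK)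
    (fun n => by
      refine IsZero.of_iso ?_ (I.isoRightDerivedObj (toBot J) (n + 1))
      refine (HomologicalComplex.exactAt_iff_isZero_homology _ _).1 ?_
      rw [HomologicalComplex.exactAt_iff' _ n (n + 1) (n + 2) (by simp) (by simp)]
      exact exact_of_sections _ fun W s hs => (subsingleton_HU_iff I W.unop n).1 (hF W.unop n) s hs)
  rw [subsingleton_ext_iff I']
  obtain @⟨c', inj, hh, ι', qi⟩ := I'
  subst hI'
  intro f hf
  change freeP _ ⟶ (toBot J).obj (I.cocomplex.X (q + 1)) at f
  change f ≫ (toBot J).map (I.cocomplex.d (q + 1) (q + 2)) = 0 at hf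
  obtain ⟨x, hx, -⟩ := exists_section hR (I.cocomplex.X (q + 1)) (botEquiv R.functor _ f)
  have hdx : (I.cocomplex.d (q + 1) (q + 2)).hom.app (op X) x = 0 := by
    apply (exists_section hR (I.cocomplex.X (q + 2)) (botEquiv R.functor _ 0)).unique
    · rw [← hf, botEquiv_comp, ← hx, Category.assoc]
      congr 1
      apply yonedaEquiv.injective
      rw [Equiv.apply_symm_apply, yonedaEquiv_comp, Equiv.apply_symm_apply]
      rfl
    · ext V i
      refine Eq.trans ?_ (botEquiv_zero_app _ _ _ _).symm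
      exact map_zero ((I.cocomplex.X (q + 2)).obj.map i.1.op).hom
  obtain ⟨t, ht⟩ := (subsingleton_HU_iff I X q).1 (hF X q) x hdx
  refine ⟨(botEquiv R.functor _).symm (R.functorInclusion ≫ yonedaEquiv.symm t), ?_⟩
  show (botEquiv R.functor _).symm _ ≫ (toBot J).map (I.cocomplex.d q (q + 1)) = f
  apply (botEquiv R.functor _).injective
  rw [botEquiv_comp, Equiv.apply_symm_apply, ← hx, Category.assoc]
  congr 1
  apply yonedaEquiv.injective
  rw [yonedaEquiv_comp, Equiv.apply_symm_apply, Equiv.apply_symm_apply]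
  exact ht

theorem surjective_of_sieveAcyclic (S : ShortComplex (Sheaf J AddCommGrpCat.{u})) (hS : S.ShortExact)
    (h₁ : SieveAcyclic S.X₁) (X : C) : Function.Surjective (S.g.hom.app (op X)) := by
  intro φ
  haveI := hS.epi_g
  haveI := hS.mono_f
  haveI : Presheaf.IsLocallySurjective J S.g.hom := (Sheaf.isLocallySurjective_iff_epi' (A := AddCommGrpCat.{u}) S.g).2 inferInstance
  let R := Presheaf.imageSieve S.g.hom φ
  have hR : R ∈ J X := Presheaf.imageSieve_mem J S.g.hom φ
  let T := S.map (toBot J)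
  let ψ : freeP (J := (⊥ : GrothendieckTopology C)) R.functor ⟶ T.X₃ :=
    (botEquiv R.functor S.X₃).symm (R.functorInclusion ≫ yonedaEquiv.symm φ)
  have hψ : ψ ≫ cokernel.π T.g = 0 := by
    apply (setEquiv R.functor _).injective
    rw [← comp_zero (f := ψ) (Z := cokernel T.g), setEquiv_comp, setEquiv_comp, show setEquiv R.functor T.X₃ ψ = _ from Equiv.apply_symm_apply (botEquiv R.functor S.X₃) _]
    ext V ⟨i, hi⟩
    obtain ⟨y, hy⟩ := hi
    show (cokernel.π T.g).hom.app V (S.X₃.obj.map i.op φ) = 0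
    rw [← hy]
    have e := congrArg (fun t : T.X₂ ⟶ cokernel T.g => t.hom.app V y) (cokernel.condition T.g)
    exact e
  haveI : Mono T.f := inferInstanceAs (Mono ((toBot J).map S.f))
  let T' : ShortComplex (Sheaf (⊥ : GrothendieckTopology C) AddCommGrpCat.{u}) :=
    ShortComplex.mk T.f (Abelian.factorThruImage T.g) (by
      rw [← cancel_mono (Abelian.image.ι T.g), Category.assoc, Abelian.image.fac, zero_comp, T.zero])
  have hT : T.Exact := hS.exact.map_of_mono_of_preservesKernel (toBot J) hS.mono_f inferInstance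
  have hT' : T'.ShortExact :=
    ShortComplex.ShortExact.mk' ((ShortComplex.exact_iff_of_epi_of_isIso_of_mono (S₁ := T') (S₂ := T)
      { τ₁ := 𝟙 _, τ₂ := 𝟙 _, τ₃ := Abelian.image.ι T.g, comm₁₂ := by simp [T'],
        comm₂₃ := by simp [T'] }).2 hT) (inferInstance : Mono T.f) (inferInstance : Epi (Abelian.factorThruImage T.g))
  let ψ' : freeP (J := (⊥ : GrothendieckTopology C)) R.functor ⟶ T'.X₃ := kernel.lift _ ψ hψ
  haveI := h₁ X R hR 0
  obtain ⟨x₂, hx₂⟩ := Ext.covariant_sequence_exact₃ _ hT' (Ext.mk₀ ψ') (zero_add 1)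
    (Subsingleton.elim (α := Ext (freeP (J := (⊥ : GrothendieckTopology C)) R.functor) ((toBot J).obj S.X₁) 1) _ _)
  obtain ⟨l, rfl⟩ := Ext.homEquiv₀.symm.surjective x₂
  have hl : l ≫ T.g = ψ := by
    have h1 : l ≫ T'.g = ψ' := (Ext.mk₀_bijective _ _).1 (by rw [← Ext.mk₀_comp_mk₀]; exact hx₂)
    rw [← Abelian.image.fac T.g, ← Category.assoc]
    exact (congrArg (· ≫ Abelian.image.ι T.g) h1).trans (kernel.lift_ι _ _ _)
  obtain ⟨x, hx, -⟩ := exists_section hR S.X₂ (botEquiv R.functor _ l)
  refine ⟨x, (exists_section hR S.X₃ (R.functorInclusion ≫ yonedaEquiv.symm φ)).unique ?_ rfl⟩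
  refine Eq.trans ?_ ((congrArg (botEquiv R.functor S.X₃) hl).trans (Equiv.apply_symm_apply (botEquiv R.functor S.X₃) _))
  refine Eq.trans ?_ (botEquiv_comp R.functor l _).symm
  rw [← hx, Category.assoc]
  congr 1
  apply yonedaEquiv.injective
  rw [Equiv.apply_symm_apply, yonedaEquiv_comp, Equiv.apply_symm_apply]
  rfl

theorem acyclic_of_sieveAcyclic : ∀ (q : ℕ) {F : Sheaf J AddCommGrpCat.{u}}, SieveAcyclic F → ∀ X : C,
    Subsingleton (CohSite.HU F (q + 1) X) := by
  intro q
  induction q with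
  | zero =>
    intro F hF X
    refine subsingleton_of_forall_eq 0 fun x => ?_
    let S : ShortComplex (Sheaf J AddCommGrpCat.{u}) := ShortComplex.mk (Injective.ι F) (cokernel.π (Injective.ι F)) (cokernel.condition _)
    have hS : S.ShortExact :=
      ShortComplex.ShortExact.mk' (ShortComplex.exact_of_g_is_cokernel _ (cokernelIsCokernel _))
        (inferInstance : Mono (Injective.ι F)) (inferInstance : Epi (cokernel.π (Injective.ι F)))
    haveI : Injective S.X₂ := (inferInstance : Injective (Injective.under F))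
    obtain ⟨x₃, rfl⟩ := Ext.covariant_sequence_exact₁ (CohCx.freeSheaf J X) hS x (Ext.eq_zero_of_injective _) (zero_add 1)
    obtain ⟨f, rfl⟩ := Ext.homEquiv₀.symm.surjective x₃
    obtain ⟨s, hs⟩ := surjective_of_sieveAcyclic S hS hF X (freeEquiv X _ f)
    obtain ⟨g, rfl⟩ : ∃ g : CohCx.freeSheaf J X ⟶ S.X₂, g ≫ S.g = f :=
      ⟨(freeEquiv X _).symm s, (freeEquiv X _).injective (by rw [freeEquiv_comp, Equiv.apply_symm_apply, hs])⟩
    show (Ext.mk₀ (g ≫ S.g)).comp hS.extClass _ = 0
    rw [← Ext.mk₀_comp_mk₀_assoc, hS.comp_extClass, Ext.comp_zero]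
  | succ q ih =>
    intro F hF X
    refine subsingleton_of_forall_eq 0 fun x => ?_
    let S : ShortComplex (Sheaf J AddCommGrpCat.{u}) := ShortComplex.mk (Injective.ι F) (cokernel.π (Injective.ι F)) (cokernel.condition _)
    have hS : S.ShortExact :=
      ShortComplex.ShortExact.mk' (ShortComplex.exact_of_g_is_cokernel _ (cokernelIsCokernel _))
        (inferInstance : Mono (Injective.ι F)) (inferInstance : Epi (cokernel.π (Injective.ι F)))
    haveI : Injective S.X₂ := (inferInstance : Injective (Injective.under F))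
    obtain ⟨x₃, rfl⟩ := Ext.covariant_sequence_exact₁ (CohCx.freeSheaf J X) hS x (Ext.eq_zero_of_injective _) (n₀ := q + 1) rfl
    have hQ : SieveAcyclic S.X₃ := by
      intro Y R hR p
      refine subsingleton_of_forall_eq 0 fun y => ?_
      let T := S.map (toBot J)
      have hT : T.ShortExact := by
        haveI := hS.mono_f
        refine ShortComplex.ShortExact.mk' (hS.exact.map_of_mono_of_preservesKernel (toBot J) hS.mono_f inferInstance)
          (inferInstanceAs (Mono ((toBot J).map S.f))) ?_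
        haveI : ∀ V, Epi ((S.g.hom).app V) := fun V => by
          rw [AddCommGrpCat.epi_iff_surjective]; exact surjective_of_sieveAcyclic S hS hF V.unop
        haveI : Epi ((sheafToPresheaf _ AddCommGrpCat.{u}).map T.g) := NatTrans.epi_of_epi_app (α := S.g.hom)
        exact (sheafToPresheaf _ AddCommGrpCat.{u}).epi_of_epi_map this
      haveI : Injective T.X₂ := injective_toBot J _
      haveI := hF Y R hR (p + 1)
      obtain ⟨y₂, rfl⟩ := Ext.covariant_sequence_exact₃ _ hT y rfl
        (Subsingleton.elim (α := Ext (freeP (J := (⊥ : GrothendieckTopology C)) R.functor) ((toBot J).obj F) (p + 1 + 1)) _ _)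
      rw [Ext.eq_zero_of_injective y₂, Ext.zero_comp]; rfl
    haveI := ih hQ X
    rw [show x₃ = 0 from Subsingleton.elim (α := CohSite.HU S.X₃ (q + 1) X) x₃ 0, Ext.zero_comp]; rfl

end Groth.Agent.Lead.SiteCoh
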