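import Groth.Agent.Lead.SiteCoh.Edge
import Groth.Agent.Lead.SiteCoh.Sieve
import Groth.Agent.Lead.SiteCoh.AcycExt
import Mathlib.Algebra.Category.Grp.Limits

/-!
Čech cohomology of a family is cohomology of the sieve it generates, in presheaves.
-/

set_option autoImplicit false

open CategoryTheory Limits Opposite Abelian

universe u

namespace Groth.Agent.Lead.SiteCoh.Cech

variable {C : Type u} [SmallCategory C] [HasPullbacks C] {U : C} {ι : Type u} (Y : ι → Over U)

/-- the generated sieve -/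
abbrev Rs : Sieve U := Sieve.ofArrows (fun i => (Y i).left) (fun i => (Y i).hom)

omit [HasPullbacks C] in
theorem exists_lift {V : C} {f : V ⟶ U} (hf : Rs Y f) : ∃ e : Σ i, V ⟶ (Y i).left, e.2 ≫ (Y e.1).hom = f := by
  obtain ⟨W, g, _, ⟨i⟩, rfl⟩ := hf
  exact ⟨⟨i, g⟩, rfl⟩

omit [HasPullbacks C] in
theorem mem_of_lift {V : C} (e : Σ i, V ⟶ (Y i).left) : Rs Y (e.2 ≫ (Y e.1).hom) :=
  ⟨_, e.2, _, ⟨e.1⟩, rfl⟩

variable (P : Cᵒᵖ ⥤ AddCommGrpCat.{u})

/-- the cochain of a family of sections over the sieve -/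
noncomputable def cochain (φ : (Rs Y).functor ⟶ P ⋙ forget AddCommGrpCat.{u}) : (CechEdge.cx P Y).X 0 :=
  mk P fun a => φ.app (op (Z Y a).left) ⟨(Z Y a).hom, by
    rw [← Over.w (Pi.π (fun j => Y (a j)) 0)]; exact mem_of_lift Y ⟨a 0, _⟩⟩

theorem ev_cochain (φ : (Rs Y).functor ⟶ P ⋙ forget AddCommGrpCat.{u}) {V : C} (t : Tup Y V 0) (ht : Comp t) :
    ev P t ht (cochain Y P φ) = φ.app (op V) ⟨(t 0).2 ≫ (Y (t 0).1).hom, mem_of_lift Y (t 0)⟩ := by
  show P.map (toZ t ht).op (proj Y P (idx t) _) = _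
  rw [cochain, proj_mk]
  refine (NatTrans.naturality_apply φ (toZ t ht).op _).symm.trans (congrArg (φ.app (op V)) (Subtype.ext ?_))
  exact Over.w _

theorem d_cochain (φ : (Rs Y).functor ⟶ P ⋙ forget AddCommGrpCat.{u}) :
    (CechEdge.cx P Y).d 0 1 (cochain Y P φ) = 0 := by
  refine ext_proj _ fun a => ?_
  rw [map_zero, ← ev_univ, ev_d', Fin.sum_univ_two, ev_cochain, ev_cochain]
  simp only [Fin.val_zero, Fin.val_one, pow_zero, pow_one, one_smul, neg_smul, del]
  rw [← sub_eq_add_neg, sub_eq_zero]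
  exact congrArg (φ.app _) (Subtype.ext (by simp only [Category.assoc, Over.w]))

theorem exists_cochain_eq (c : (CechEdge.cx P Y).X 0) (hc : (CechEdge.cx P Y).d 0 1 c = 0) :
    ∃ φ, cochain Y P φ = c := by
  have indep : ∀ {V : C} (e e' : Σ i, V ⟶ (Y i).left), e.2 ≫ (Y e.1).hom = e'.2 ≫ (Y e'.1).hom →
      ev P (fun _ => e) (fun _ => rfl) c = ev P (fun _ => e') (fun _ => rfl) c := fun {V} e e' h => by
    let p : Tup Y V 1 := Fin.cons e (fun _ => e')
    have hp : Comp p := fun j => by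
      refine Fin.cases rfl (fun k => ?_) j
      exact h.symm
    have := ev_d' P c p hp
    rw [hc, map_zero, Fin.sum_univ_two] at this
    simp only [Fin.val_zero, Fin.val_one, pow_zero, pow_one, one_smul, neg_smul] at this
    rw [ev_congr _ _ (show del 0 p = fun _ => e' from funext fun k => by fin_cases k; rfl),
      ev_congr _ _ (show del 1 p = fun _ => e from funext fun k => by fin_cases k; rfl)] at this
    exact (eq_of_sub_eq_zero (by rw [sub_eq_add_neg]; exact this.symm)).symm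
  let φ : (Rs Y).functor ⟶ P ⋙ forget AddCommGrpCat.{u} :=
    { app := fun V => TypeCat.ofHom fun f => ev P (fun _ => (exists_lift Y f.2).choose) (fun _ => rfl) c
      naturality := fun V W k => by
        ext f
        show ev P (fun _ => (exists_lift Y ((Rs Y).functor.map k f).2).choose) (fun _ => rfl) c =
          P.map k (ev P (fun _ => (exists_lift Y f.2).choose) (fun _ => rfl) c)
        refine Eq.trans (indep _ ⟨(exists_lift Y f.2).choose.1, k.unop ≫ (exists_lift Y f.2).choose.2⟩ ?_) ?_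
        · rw [(exists_lift Y ((Rs Y).functor.map k f).2).choose_spec, Category.assoc, (exists_lift Y f.2).choose_spec]; rfl
        · exact (congrArg (fun F : _ ⟶ P.obj W => F c)
            (map_ev P (fun _ => (exists_lift Y f.2).choose) (fun _ => rfl) k.unop)).symm }
  refine ⟨φ, ext_proj _ fun a => ?_⟩
  rw [← ev_univ, ev_cochain]
  show ev P (fun _ => (exists_lift Y (mem_of_lift Y
    ⟨a 0, 𝟙 (Z Y a).left ≫ (Pi.π (fun j => Y (a j)) 0).left⟩)).choose) (fun _ => rfl) c = _
  refine (indep _ _ (exists_lift Y (mem_of_lift Y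
    ⟨a 0, 𝟙 (Z Y a).left ≫ (Pi.π (fun j => Y (a j)) 0).left⟩)).choose_spec).trans ?_
  exact congrArg (fun F : _ ⟶ P.obj (op (Z Y a).left) => F c) (ev_congr _ _ (funext fun j => by
    obtain rfl : j = 0 := Fin.fin_one_eq_zero j
    rfl))

/-- the cycle of a family over the sieve -/
noncomputable def cycle (φ : (Rs Y).functor ⟶ P ⋙ forget AddCommGrpCat.{u}) : (CechEdge.cx P Y).cycles 0 :=
  ((ShortComplex.ab_exact_iff (ShortComplex.mk _ _ ((CechEdge.cx P Y).iCycles_d 0 1))).1
    (ShortComplex.exact_of_f_is_kernel _ ((CechEdge.cx P Y).cyclesIsKernel 0 1 (by simp))) _ (d_cochain Y P φ)).choose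

theorem iCycles_cycle (φ : (Rs Y).functor ⟶ P ⋙ forget AddCommGrpCat.{u}) :
    (CechEdge.cx P Y).iCycles 0 (cycle Y P φ) = cochain Y P φ :=
  ((ShortComplex.ab_exact_iff (ShortComplex.mk _ _ ((CechEdge.cx P Y).iCycles_d 0 1))).1
    (ShortComplex.exact_of_f_is_kernel _ ((CechEdge.cx P Y).cyclesIsKernel 0 1 (by simp))) _ (d_cochain Y P φ)).choose_spec

/-- families over the sieve as classes -/
noncomputable def cls (φ : (Rs Y).functor ⟶ P ⋙ forget AddCommGrpCat.{u}) : CohCx.cechH P Y 0 :=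
  (CechEdge.cx P Y).homologyπ 0 (cycle Y P φ)

theorem cls_bijective : Function.Bijective (cls Y P) := by
  have hπ := (ConcreteCategory.isIso_iff_bijective ((CechEdge.cx P Y).homologyπ 0)).1 inferInstance
  refine ⟨fun φ φ' e => ?_, fun x => ?_⟩
  · have h := (iCycles_cycle Y P φ).symm.trans ((congrArg _ (hπ.1 e)).trans (iCycles_cycle Y P φ'))
    ext V f
    obtain ⟨e, he⟩ := exists_lift Y f.2
    have h' := congrArg (ev P (fun _ => e) (fun _ => rfl)) h
    rw [ev_cochain, ev_cochain] at h'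
    rw [show f = (⟨e.2 ≫ (Y e.1).hom, mem_of_lift Y e⟩ : (Rs Y).functor.obj V) from Subtype.ext he.symm]
    exact h'
  · obtain ⟨z, rfl⟩ := hπ.2 x
    obtain ⟨φ, hφ⟩ := exists_cochain_eq Y P ((CechEdge.cx P Y).iCycles 0 z)
      (congrArg (fun h : (CechEdge.cx P Y).cycles 0 ⟶ _ => h z) ((CechEdge.cx P Y).iCycles_d 0 1))
    exact ⟨φ, congrArg _ (iCycles_injective Y P ((iCycles_cycle Y P φ).trans hφ))⟩

theorem cls_natural {Q : Cᵒᵖ ⥤ AddCommGrpCat.{u}} (χ : P ⟶ Q) (φ : (Rs Y).functor ⟶ P ⋙ forget AddCommGrpCat.{u}) :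
    CechEdge.cechHMap Y χ 0 (cls Y P φ) = cls Y Q (φ ≫ Functor.whiskerRight χ (forget AddCommGrpCat.{u})) := by
  refine (congrArg (fun F : (CechEdge.cx P Y).cycles 0 ⟶ CohCx.cechH Q Y 0 => F (cycle Y P φ))
    (HomologicalComplex.homologyπ_naturality ((CechEdge.cxFunctor Y).map χ) 0)).trans ?_
  refine congrArg ((CechEdge.cx Q Y).homologyπ 0) ?_
  refine iCycles_injective Y Q ?_
  rw [iCycles_cycle]
  refine (congrArg (fun F : (CechEdge.cx P Y).cycles 0 ⟶ (CechEdge.cx Q Y).X 0 => F (cycle Y P φ))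
    (HomologicalComplex.cyclesMap_i ((CechEdge.cxFunctor Y).map χ) 0)).trans ?_
  refine (congrArg _ (iCycles_cycle Y P φ)).trans (ext_proj _ fun a => ?_)
  refine (proj_cxMap Y χ 0 _ a).trans ?_
  rw [cochain, cochain, proj_mk, proj_mk]
  rfl

/-- Čech cohomology of a family is presheaf cohomology of the sieve -/
theorem nonempty_cechH_addEquiv (q : ℕ) : ∀ F : Sheaf (⊥ : GrothendieckTopology C) AddCommGrpCat.{u},
    Nonempty (CohCx.cechH F.obj Y q ≃+ Ext (freeP (J := (⊥ : GrothendieckTopology C)) (Rs Y).functor) F q) := by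
  let X := freeP (J := (⊥ : GrothendieckTopology C)) (Rs Y).functor
  let b : ∀ F : Sheaf (⊥ : GrothendieckTopology C) AddCommGrpCat.{u}, (X ⟶ F) ≃ CohCx.cechH F.obj Y 0 := fun F =>
    (setEquiv _ F).trans (Equiv.ofBijective _ (cls_bijective Y F.obj))
  have hb : ∀ (F G : Sheaf (⊥ : GrothendieckTopology C) AddCommGrpCat.{u}) (φ : F ⟶ G) (f : X ⟶ F),
      b G (f ≫ φ) = CechEdge.cechHMap Y φ.hom 0 (b F f) := fun F G φ f =>
    (congrArg (cls Y G.obj) (setEquiv_comp _ f φ)).trans (cls_natural Y F.obj φ.hom _).symm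
  have hadd : ∀ (F : Sheaf (⊥ : GrothendieckTopology C) AddCommGrpCat.{u}) (f g : X ⟶ F), b F (f + g) = b F f + b F g := by
    intro F f g
    have hA : ∀ φ : X ⟶ F, b F φ = CechEdge.cechHMap Y φ.hom 0 (b X (𝟙 _)) := fun φ => by rw [← hb, Category.id_comp]
    rw [hA, hA f, hA g]
    have hmap : (CechEdge.cxFunctor Y).map ((f + g).hom) =
        (CechEdge.cxFunctor Y).map f.hom + (CechEdge.cxFunctor Y).map g.hom := by
      ext n w
      refine ext_proj _ fun a => (proj_cxMap Y _ n w a).trans ?_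
      refine Eq.trans ?_ (map_add (proj Y F.obj a).hom _ _).symm
      exact (congrArg₂ (· + ·) (proj_cxMap Y f.hom n w a) (proj_cxMap Y g.hom n w a)).symm
    exact congrArg (fun F' : CohCx.cechH X.obj Y 0 ⟶ CohCx.cechH F.obj Y 0 => F' (b X (𝟙 _)))
      ((congrArg (fun z => HomologicalComplex.homologyMap z 0) hmap).trans (HomologicalComplex.homologyMap_add _ _ 0))
  let a : ∀ F, (X ⟶ F) ≃+ CohCx.cechH F.obj Y 0 := fun F => { b F with map_add' := hadd F }
  induction q with
  | zero => exact fun F => ⟨(a F).symm.trans Ext.addEquiv₀.symm⟩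
  | succ q ih =>
    intro F
    let S : ShortComplex (Sheaf (⊥ : GrothendieckTopology C) AddCommGrpCat.{u}) :=
      ShortComplex.mk (Injective.ι F) (cokernel.π (Injective.ι F)) (cokernel.condition _)
    have hS : S.ShortExact :=
      ShortComplex.ShortExact.mk' (ShortComplex.exact_of_g_is_cokernel _ (cokernelIsCokernel _))
        (inferInstance : Mono (Injective.ι F)) (inferInstance : Epi (cokernel.π (Injective.ι F)))
    haveI : Injective S.X₂ := (inferInstance : Injective (Injective.under F))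
    have hP : (S.map (sheafToPresheaf _ AddCommGrpCat.{u})).ShortExact := by
      haveI : (sheafToPresheaf (⊥ : GrothendieckTopology C) AddCommGrpCat.{u}).IsEquivalence :=
        { essSurj := ⟨fun P => ⟨⟨P, Presheaf.isSheaf_bot P⟩, ⟨Iso.refl _⟩⟩⟩ }
      exact hS.map_of_exact _
    have hC := shortExact_cxP Y hP
    haveI : Injective S.X₂.obj :=
      CategoryTheory.Injective.injective_of_adjoint (sheafificationAdjunction _ AddCommGrpCat.{u}) S.X₂
    have hzero : IsZero (CohCx.cechH S.X₂.obj Y (q + 1)) := isZero_cechH_of_injective S.X₂.obj Y q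
    let δ₁ : CohCx.cechH S.X₃.obj Y q →+ CohCx.cechH S.X₁.obj Y (q + 1) := (hC.δ q (q + 1) rfl).hom
    let δ₂ : Ext X S.X₃ q →+ Ext X S.X₁ (q + 1) := hS.extClass.postcomp X rfl
    have s₁ : Function.Surjective δ₁ := δ_surjective Y hC q hzero
    have s₂ : Function.Surjective δ₂ := fun z => by
      obtain ⟨w, hw⟩ := Ext.covariant_sequence_exact₁ X hS z (Ext.eq_zero_of_injective _) (n₀ := q) rfl
      exact ⟨w, hw⟩
    cases q with
    | zero =>
      let e : CohCx.cechH S.X₃.obj Y 0 ≃+ Ext X S.X₃ 0 := (a _).symm.trans Ext.addEquiv₀.symm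
      refine nonempty_addEquiv_of_ker_eq δ₁ (δ₂.comp e.toAddMonoidHom) s₁ (s₂.comp e.surjective) ?_
      ext z
      obtain ⟨f, rfl⟩ := (a S.X₃).surjective z
      have he : e (a _ f) = Ext.mk₀ f := by
        show Ext.addEquiv₀.symm ((a _).symm (a _ f)) = _
        rw [AddEquiv.symm_apply_apply]; rfl
      show δ₁ (a _ f) = 0 ↔ δ₂ (e (a _ f)) = 0
      rw [he]
      constructor
      · intro h
        obtain ⟨y, hy⟩ := exists_of_δ_eq_zero Y hC 0 (a _ f) h
        obtain ⟨t, rfl⟩ := (a S.X₂).surjective y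
        obtain rfl : t ≫ S.g = f := (a _).injective ((hb _ _ S.g t).trans hy)
        show (Ext.mk₀ (t ≫ S.g)).comp hS.extClass rfl = 0
        rw [← Ext.mk₀_comp_mk₀_assoc, hS.comp_extClass, Ext.comp_zero]
      · intro h
        obtain ⟨x₂, hx₂⟩ := Ext.covariant_sequence_exact₃ X hS (Ext.mk₀ f) rfl h
        obtain ⟨t, rfl⟩ := Ext.homEquiv₀.symm.surjective x₂
        obtain rfl : t ≫ S.g = f := (Ext.mk₀_bijective _ _).1 (by rw [← Ext.mk₀_comp_mk₀]; exact hx₂)
        show δ₁ (a _ (t ≫ S.g)) = 0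
        rw [show a S.X₃ (t ≫ S.g) = CechEdge.cechHMap Y S.g.hom 0 (a _ t) from hb _ _ S.g t]
        exact congrArg (fun F' : CohCx.cechH S.X₂.obj Y 0 ⟶ CohCx.cechH S.X₁.obj Y 1 => F' (a _ t)) (hC.comp_δ 0 1 rfl)
    | succ m =>
      obtain ⟨e⟩ := ih S.X₃
      refine nonempty_addEquiv_of_ker_eq δ₁ (δ₂.comp e.toAddMonoidHom) s₁ (s₂.comp e.surjective) ?_
      ext z
      show δ₁ z = 0 ↔ δ₂ (e z) = 0
      refine ⟨fun h => ?_, fun h => ?_⟩
      · obtain ⟨y, hy⟩ := exists_of_δ_eq_zero Y hC (m + 1) z h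
        have hzy : IsZero (CohCx.cechH S.X₂.obj Y (m + 1)) := isZero_cechH_of_injective S.X₂.obj Y m
        haveI := AddCommGrpCat.subsingleton_of_isZero hzy
        obtain rfl : z = 0 := by rw [← hy, Subsingleton.elim (α := CohCx.cechH S.X₂.obj Y (m + 1)) y 0]; exact map_zero _
        rw [map_zero, map_zero]
      · obtain ⟨x₂, hx₂⟩ := Ext.covariant_sequence_exact₃ X hS (e z) rfl h
        obtain rfl : z = 0 := e.injective (by rw [map_zero, ← hx₂, Ext.eq_zero_of_injective x₂, Ext.zero_comp])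
        rw [map_zero]

end Groth.Agent.Lead.SiteCoh.Cech
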