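import Groth.Agent.Lead.SiteCoh.Nerve

/-!
Vanishing of Čech cohomology of all epimorphisms of sheaves of sets implies total acyclicity.
-/

set_option autoImplicit false

open CategoryTheory Limits Opposite Abelian AlgebraicTopology Simplicial

universe u

namespace Groth.Agent.Lead.SiteCoh

variable {C : Type u} [SmallCategory C] {J : GrothendieckTopology C}

/-- the Čech complexes of all epimorphisms are exact in positive degrees -/
def CechAcyclic (F : Sheaf J AddCommGrpCat.{u}) : Prop :=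
  ∀ (K' K : Sheaf J (Type u)) (f : K' ⟶ K), Epi f → ∀ (q : ℕ) (a : (freeCx f).X (q + 1) ⟶ F),
    (freeCx f).d (q + 2) (q + 1) ≫ a = 0 → ∃ b, (freeCx f).d (q + 1) q ≫ b = a

theorem cechAcyclic_of_injective (I : Sheaf J AddCommGrpCat.{u}) [Injective I] : CechAcyclic I :=
  fun _ _ f _ q => exists_d f I (fun P n => subsingleton_of_forall_eq 0 fun x => Ext.eq_zero_of_injective x) q

variable (S : ShortComplex (Sheaf J AddCommGrpCat.{u})) (hS : S.ShortExact)

include hS in
theorem exists_local_lift (K : Sheaf J (Type u)) (κ : K.obj ⟶ S.X₃.obj ⋙ forget AddCommGrpCat.{u}) :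
    ∃ (K' : Sheaf J (Type u)) (f : K' ⟶ K), Epi f ∧
      ∃ l : K'.obj ⟶ S.X₂.obj ⋙ forget AddCommGrpCat.{u},
        l ≫ Functor.whiskerRight S.g.hom (forget AddCommGrpCat.{u}) = f.hom ≫ κ := by
  haveI := hS.epi_g
  let g' : S.X₂.obj ⋙ forget AddCommGrpCat.{u} ⟶ S.X₃.obj ⋙ forget AddCommGrpCat.{u} :=
    Functor.whiskerRight S.g.hom (forget AddCommGrpCat.{u})
  haveI hg : Sheaf.IsLocallySurjective S.g := (Sheaf.isLocallySurjective_iff_epi' (A := AddCommGrpCat.{u}) S.g).2 inferInstance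
  let P : Cᵒᵖ ⥤ Type u :=
    { obj := fun V => {p : K.obj.obj V × S.X₂.obj.obj V // κ.app V p.1 = S.g.hom.app V p.2}
      map := fun {V W} i => TypeCat.ofHom fun p => ⟨(K.obj.map i p.1.1, S.X₂.obj.map i p.1.2), by
        exact (congrArg (fun t => t p.1.1) (κ.naturality i)).trans
          ((congrArg (S.X₃.obj.map i) p.2).trans (congrArg (fun t => t p.1.2) (S.g.hom.naturality i)).symm)⟩
      map_id := fun V => by ext p <;> simp
      map_comp := fun i j => by ext p <;> simp }
  let π₁ : P ⟶ K.obj := { app := fun V => TypeCat.ofHom fun p => p.1.1 }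
  let π₂ : P ⟶ S.X₂.obj ⋙ forget AddCommGrpCat.{u} := { app := fun V => TypeCat.ofHom fun p => p.1.2 }
  haveI : Presheaf.IsLocallySurjective J π₁ := ⟨fun {U} s => by
    refine J.superset_covering ?_ (Presheaf.imageSieve_mem J S.g.hom (κ.app (op U) s))
    intro V i hi
    obtain ⟨y, hy⟩ := hi
    exact ⟨⟨(K.obj.map i.op s, y), (congrArg (fun t => t s) (κ.naturality i.op)).trans hy.symm⟩, rfl⟩⟩
  let K' : Sheaf J (Type u) := (presheafToSheaf J (Type u)).obj P
  let f : K' ⟶ K := ⟨sheafifyLift J π₁ K.property⟩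
  haveI : Sheaf.IsLocallySurjective f := by
    show Presheaf.IsLocallySurjective J (sheafifyLift J π₁ K.property)
    exact Presheaf.isLocallySurjective_of_isLocallySurjective_fac J (toSheafify_sheafifyLift J π₁ K.property)
  have h2 : Presheaf.IsSheaf J (S.X₂.obj ⋙ forget AddCommGrpCat.{u}) :=
    ((sheafCompose J (forget AddCommGrpCat.{u})).obj S.X₂).property
  refine ⟨K', f, Sheaf.epi_of_isLocallySurjective f, sheafifyLift J π₂ h2, ?_⟩
  refine sheafify_hom_ext J _ _ (((sheafCompose J (forget AddCommGrpCat.{u})).obj S.X₃).property) ?_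
  rw [← Category.assoc, toSheafify_sheafifyLift, ← Category.assoc, toSheafify_sheafifyLift]
  ext V p
  exact p.2.symm

include hS in
theorem exists_lift_freeP (h₁ : CechAcyclic S.X₁) (K : Sheaf J (Type u)) (φ : freeP K.obj ⟶ S.X₃) :
    ∃ ψ : freeP K.obj ⟶ S.X₂, ψ ≫ S.g = φ := by
  obtain ⟨K', f, hf, l, hl⟩ := exists_local_lift S hS K (setEquiv K.obj _ φ)
  let u₀ : freeP K'.obj ⟶ S.X₂ := (setEquiv K'.obj _).symm l
  have hu₀ : u₀ ≫ S.g = freePMap f.hom ≫ φ := by
    apply (setEquiv K'.obj _).injective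
    rw [setEquiv_comp, setEquiv_map, Equiv.apply_symm_apply, hl]
  haveI : QuasiIso (AlternatingFaceMapComplex.ε.app (freeNerve f)) := Groth.Agent.S6161.result J f
  let ε := AlternatingFaceMapComplex.ε.app (freeNerve f)
  obtain ⟨w, hex, he⟩ := aug_spec ε
  let π₀ : (Arrow.mk f).cechNerve.obj (op ⦋0⦌) ⟶ K' := WidePullback.π (fun _ : Fin 1 => f) 0
  let φ' : (freeNerve f).right ⟶ S.X₃ := φ
  have haug : (freePMap π₀.hom ≫ freePMap f.hom : (freeCx f).X 0 ⟶ (freeNerve f).right) = aug ε := by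
    rw [aug, AlternatingFaceMapComplex.ε_app_f_zero]
    show _ = (Sheaf.composeAndSheafify J AddCommGrpCat.free.{u}).map (WidePullback.base (fun _ : Fin 1 => f))
    rw [← WidePullback.π_arrow (fun _ : Fin 1 => f) 0]
    exact ((presheafToSheaf J AddCommGrpCat.{u}).map_comp _ _).symm.trans
      (congrArg (presheafToSheaf J AddCommGrpCat.{u}).map (Functor.whiskerRight_comp π₀.hom f.hom _).symm)
  obtain ⟨u, hu⟩ : ∃ u : (freeCx f).X 0 ⟶ S.X₂, u ≫ S.g = aug ε ≫ φ' := by
    refine ⟨freePMap π₀.hom ≫ u₀, ?_⟩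
    refine (Category.assoc _ _ _).trans ((congrArg (freePMap π₀.hom ≫ ·) hu₀).trans ?_)
    refine (Category.assoc _ _ _).symm.trans ?_
    exact congrArg (fun t => t ≫ φ') haug
  haveI := hS.mono_f
  have hw : ((freeCx f).d 1 0 ≫ u) ≫ S.g = 0 :=
    (Category.assoc _ _ _).trans ((congrArg (_ ≫ ·) hu).trans ((Category.assoc _ _ _).symm.trans
      ((congrArg (· ≫ φ') w).trans zero_comp)))
  obtain ⟨t, ht⟩ := h₁ K' K f hf 0 (hS.exact.lift _ hw) (by
    rw [← cancel_mono S.f, Category.assoc, hS.exact.lift_f, ← Category.assoc, HomologicalComplex.d_comp_d, zero_comp, zero_comp])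
  have hd : (freeCx f).d 1 0 ≫ (u - t ≫ S.f) = 0 := by
    rw [Preadditive.comp_sub, reassoc_of% ht, hS.exact.lift_f, sub_self]
  haveI := he
  refine ⟨hex.desc _ hd, ?_⟩
  have hdesc : aug ε ≫ hex.desc _ hd = u - t ≫ S.f := hex.g_desc _ hd
  show hex.desc _ hd ≫ S.g = φ'
  refine (cancel_epi (aug ε)).1 ?_
  refine (Category.assoc _ _ _).symm.trans ((congrArg (· ≫ S.g) hdesc).trans ?_)
  rw [Preadditive.sub_comp, Category.assoc, S.zero, comp_zero, sub_zero]
  exact hu

include hS in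
theorem cechAcyclic_X₃ (h₁ : CechAcyclic S.X₁) (h₂ : CechAcyclic S.X₂) : CechAcyclic S.X₃ := by
  intro K' K f hf q a ha
  haveI := hS.mono_f
  obtain ⟨a', ha'⟩ : ∃ a' : (freeCx f).X (q + 1) ⟶ S.X₂, a' ≫ S.g = a :=
    exists_lift_freeP S hS h₁ ((Arrow.mk f).cechNerve.obj (op ⦋q + 1⦌)) a
  have hw : ((freeCx f).d (q + 2) (q + 1) ≫ a') ≫ S.g = 0 := by rw [Category.assoc]; exact (congrArg _ ha').trans ha
  obtain ⟨t, ht⟩ := h₁ K' K f hf (q + 1) (hS.exact.lift _ hw) (by
    rw [← cancel_mono S.f, Category.assoc, hS.exact.lift_f, ← Category.assoc, HomologicalComplex.d_comp_d, zero_comp, zero_comp])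
  obtain ⟨b, hb⟩ := h₂ K' K f hf q (a' - t ≫ S.f) (by
    rw [Preadditive.comp_sub, reassoc_of% ht, hS.exact.lift_f]; exact sub_self _)
  refine ⟨b ≫ S.g, ?_⟩
  rw [reassoc_of% hb, Preadditive.sub_comp, Category.assoc, S.zero, comp_zero, sub_zero]
  exact ha'

theorem isTotallyAcyclic_of_cechAcyclic : ∀ {F : Sheaf J AddCommGrpCat.{u}}, CechAcyclic F → CohCx.IsTotallyAcyclic F := by
  suffices h : ∀ (q : ℕ) (K : Sheaf J (Type u)) (F : Sheaf J AddCommGrpCat.{u}), CechAcyclic F →
      Subsingleton (CohCx.HK K F (q + 1)) from fun {F} hF K q => h q K F hF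
  intro q
  induction q with
  | zero =>
    intro K F hF
    refine subsingleton_of_forall_eq 0 fun x => ?_
    let S : ShortComplex (Sheaf J AddCommGrpCat.{u}) := ShortComplex.mk (Injective.ι F) (cokernel.π (Injective.ι F)) (cokernel.condition _)
    have hS : S.ShortExact :=
      ShortComplex.ShortExact.mk' (ShortComplex.exact_of_g_is_cokernel _ (cokernelIsCokernel _))
        (inferInstance : Mono (Injective.ι F)) (inferInstance : Epi (cokernel.π (Injective.ι F)))
    haveI : Injective S.X₂ := (inferInstance : Injective (Injective.under F))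
    obtain ⟨x₃, rfl⟩ := Ext.covariant_sequence_exact₁ _ hS x (Ext.eq_zero_of_injective _) (zero_add 1)
    obtain ⟨φ, rfl⟩ := Ext.homEquiv₀.symm.surjective x₃
    obtain ⟨ψ, rfl⟩ := exists_lift_freeP S hS hF K φ
    show (Ext.mk₀ (ψ ≫ S.g)).comp hS.extClass _ = 0
    rw [← Ext.mk₀_comp_mk₀_assoc, hS.comp_extClass, Ext.comp_zero]
  | succ q ih =>
    intro K F hF
    refine subsingleton_of_forall_eq 0 fun x => ?_
    let S : ShortComplex (Sheaf J AddCommGrpCat.{u}) := ShortComplex.mk (Injective.ι F) (cokernel.π (Injective.ι F)) (cokernel.condition _)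
    have hS : S.ShortExact :=
      ShortComplex.ShortExact.mk' (ShortComplex.exact_of_g_is_cokernel _ (cokernelIsCokernel _))
        (inferInstance : Mono (Injective.ι F)) (inferInstance : Epi (cokernel.π (Injective.ι F)))
    haveI : Injective S.X₂ := (inferInstance : Injective (Injective.under F))
    obtain ⟨x₃, rfl⟩ := Ext.covariant_sequence_exact₁ _ hS x (Ext.eq_zero_of_injective _) (n₀ := q + 1) rfl
    haveI := ih K S.X₃ (cechAcyclic_X₃ S hS hF (cechAcyclic_of_injective _))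
    rw [show x₃ = 0 from Subsingleton.elim _ _, Ext.zero_comp]

end Groth.Agent.Lead.SiteCoh
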