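import Groth.Agent.Lead.SiteCoh.Basic
import Groth.Agent.Lead.Flasque.ExtCompute
import Groth.Agent.Lead.Flasque.Derived
import Groth.Prelude.Def_FreeSh
import Mathlib.Algebra.Homology.ShortComplex.Ab
import Mathlib.Algebra.Homology.ShortComplex.PreservesHomology

/-!
Higher direct images on sites as sheafified cohomology presheaves.
-/

set_option autoImplicit false

universe u

open CategoryTheory Limits Opposite Abelian

namespace Groth.Agent.Lead.SiteCoh.Derived

variable {C : Type u} [SmallCategory C] {J : GrothendieckTopology C}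

/-- sections as maps out of the free sheaf -/
noncomputable abbrev freeEquiv (U : C) (G : Sheaf J AddCommGrpCat.{u}) : (CohCx.freeSheaf J U ⟶ G) ≃ G.obj.obj (op U) :=
  (CohFree.homEquivSect J U G).toEquiv

theorem freeEquiv_add (U : C) (G : Sheaf J AddCommGrpCat.{u}) (a b : CohCx.freeSheaf J U ⟶ G) :
    freeEquiv U G (a + b) = freeEquiv U G a + freeEquiv U G b := map_add (CohFree.homEquivSect J U G) a b

theorem freeEquiv_comp (U : C) {G G' : Sheaf J AddCommGrpCat.{u}} (g : CohCx.freeSheaf J U ⟶ G) (φ : G ⟶ G') :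
    freeEquiv U G' (g ≫ φ) = φ.hom.app (op U) (freeEquiv U G g) := rfl

theorem freeEquiv_map {U V : C} (i : V ⟶ U) (G : Sheaf J AddCommGrpCat.{u}) (g : CohCx.freeSheaf J U ⟶ G) :
    freeEquiv V G (CohCx.freeSheafMap J i ≫ g) = G.obj.map i.op (freeEquiv U G g) :=
  CohFree.evalGen_freeSheafMap_comp J i G g

variable {F : Sheaf J AddCommGrpCat.{u}} (R : InjectiveResolution F) (p : ℕ)

/-- the complex of presheaves of sections -/
noncomputable abbrev secComplex : CochainComplex (Cᵒᵖ ⥤ AddCommGrpCat.{u}) ℕ :=
  ((sheafToPresheaf _ _).mapHomologicalComplex (ComplexShape.up ℕ)).obj R.cocomplex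

theorem iCycles_d_apply (U : Cᵒᵖ) (x : ((secComplex R).cycles p).obj U) :
    (R.cocomplex.d p (p + 1)).hom.app U (((secComplex R).iCycles p).app U x) = 0 :=
  ConcreteCategory.congr_hom (congrArg (fun t => NatTrans.app t U) ((secComplex R).iCycles_d p (p + 1))) x

theorem cocycle_condition (U : C) (x : ((secComplex R).cycles p).obj (op U)) :
    (freeEquiv U _).symm (((secComplex R).iCycles p).app (op U) x) ≫ R.cocomplex.d p (p + 1) = 0 := by
  apply (freeEquiv U _).injective
  rw [freeEquiv_comp, Equiv.apply_symm_apply, iCycles_d_apply]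
  exact (map_zero (AddMonoidHom.mk' (freeEquiv U (R.cocomplex.X (p + 1))) (freeEquiv_add U _))).symm

/-- cycles to the cohomology presheaf -/
noncomputable def cyclesToCoh : (secComplex R).cycles p ⟶ Sheaf.cohomologyPresheaf.{u} F p where
  app U := AddCommGrpCat.ofHom (AddMonoidHom.mk'
    (fun x => R.extMk ((freeEquiv U.unop _).symm (((secComplex R).iCycles p).app U x)) (p + 1) rfl
      (cocycle_condition R p U.unop x))
    fun x y => by
      have e : (freeEquiv U.unop _).symm (((secComplex R).iCycles p).app U (x + y)) =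
          (freeEquiv U.unop _).symm (((secComplex R).iCycles p).app U x) +
            (freeEquiv U.unop _).symm (((secComplex R).iCycles p).app U y) := by
        apply (freeEquiv U.unop _).injective
        rw [freeEquiv_add, Equiv.apply_symm_apply, Equiv.apply_symm_apply, Equiv.apply_symm_apply]
        exact map_add _ x y
      simp only [e]
      exact (R.add_extMk _ _ (p + 1) rfl (cocycle_condition R p _ x) (cocycle_condition R p _ y)).symm)
  naturality U V i := by
    ext x
    show R.extMk _ (p + 1) rfl (cocycle_condition R p V.unop _) =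
      (Ext.mk₀ (CohCx.freeSheafMap J i.unop)).comp (R.extMk _ (p + 1) rfl (cocycle_condition R p U.unop x)) (zero_add p)
    rw [R.mk₀_comp_extMk]
    congr 1
    apply (freeEquiv V.unop _).injective
    rw [freeEquiv_map, Equiv.apply_symm_apply, Equiv.apply_symm_apply]
    exact NatTrans.naturality_apply ((secComplex R).iCycles p) i x

theorem exact_iCycles (U : Cᵒᵖ) (s : (R.cocomplex.X p).obj.obj U)
    (hs : (R.cocomplex.d p (p + 1)).hom.app U s = 0) :
    ∃ x, ((secComplex R).iCycles p).app U x = s := by
  have h : (ShortComplex.mk ((secComplex R).iCycles p) ((secComplex R).d p (p + 1))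
      ((secComplex R).iCycles_d p (p + 1))).Exact :=
    ShortComplex.exact_of_f_is_kernel _ ((secComplex R).cyclesIsKernel p (p + 1) (by simp))
  exact (ShortComplex.ab_exact_iff _).1 (h.map ((evaluation _ _).obj U)) s hs

instance mono_iCycles_app (U : Cᵒᵖ) : Mono (((secComplex R).iCycles p).app U) :=
  inferInstanceAs (Mono (((evaluation _ _).obj U).map ((secComplex R).iCycles p)))

theorem epi_cyclesToCoh : Epi (cyclesToCoh R p) := by
  have : ∀ U, Epi ((cyclesToCoh R p).app U) := fun U => by
    rw [AddCommGrpCat.epi_iff_surjective]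
    intro ξ
    obtain ⟨f, hf, rfl⟩ := R.extMk_surjective ξ (p + 1) rfl
    obtain ⟨x, hx⟩ := exact_iCycles R p U (freeEquiv U.unop _ f) (by
      rw [← freeEquiv_comp, hf]
      exact (map_zero (AddMonoidHom.mk' (freeEquiv U.unop (R.cocomplex.X (p + 1))) (freeEquiv_add _ _))))
    refine ⟨x, ?_⟩
    show R.extMk _ (p + 1) rfl (cocycle_condition R p U.unop x) = _
    congr 1
    rw [hx, Equiv.symm_apply_apply]
  exact NatTrans.epi_of_epi_app _

theorem cyclesToCoh_eq_zero_iff (U : Cᵒᵖ) (x : ((secComplex R).cycles p).obj U) :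
    (cyclesToCoh R p).app U x = 0 ↔
      ∃ t, ((secComplex R).toCycles ((ComplexShape.up ℕ).prev p) p).app U t = x := by
  show R.extMk _ (p + 1) rfl (cocycle_condition R p U.unop x) = 0 ↔ _
  have hinj := (AddCommGrpCat.mono_iff_injective _).1 (mono_iCycles_app R p U)
  have hzero : ∀ (G : Sheaf J AddCommGrpCat.{u}), (freeEquiv U.unop G) 0 = 0 := fun G =>
    map_zero (AddMonoidHom.mk' (freeEquiv U.unop G) (freeEquiv_add U.unop G))
  cases p with
  | zero =>
    rw [Groth.Agent.Lead.Flasque.ExtCompute.extMk_eq_zero_iff_zero, CochainComplex.prev_nat_zero,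
      show (secComplex R).toCycles 0 0 = 0 from by
        rw [← cancel_mono ((secComplex R).iCycles 0), HomologicalComplex.toCycles_i,
          HomologicalComplex.shape _ _ _ (by simp), zero_comp]]
    constructor
    · intro h
      refine ⟨0, hinj ?_⟩
      rw [map_zero, map_zero]
      rw [← Equiv.apply_symm_apply (freeEquiv U.unop _) (((secComplex R).iCycles 0).app U x)]
      exact (hzero _).symm.trans (congrArg _ h.symm)
    · rintro ⟨t, rfl⟩
      apply (freeEquiv U.unop _).injective
      rw [Equiv.apply_symm_apply, hzero]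
      exact map_zero _
  | succ m =>
    rw [R.extMk_eq_zero_iff _ _ _ _ m rfl, CochainComplex.prev_nat_succ]
    have key : ∀ t, ((secComplex R).iCycles (m + 1)).app U (((secComplex R).toCycles m (m + 1)).app U t) =
        (R.cocomplex.d m (m + 1)).hom.app U t := fun t =>
      ConcreteCategory.congr_hom (congrArg (fun a => NatTrans.app a U) ((secComplex R).toCycles_i m (m + 1))) t
    constructor
    · rintro ⟨g, hg⟩
      refine ⟨freeEquiv U.unop _ g, hinj ?_⟩
      rw [key, ← freeEquiv_comp, hg, Equiv.apply_symm_apply]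
    · rintro ⟨t, rfl⟩
      refine ⟨(freeEquiv U.unop _).symm t, (freeEquiv U.unop _).injective ?_⟩
      rw [freeEquiv_comp, Equiv.apply_symm_apply, Equiv.apply_symm_apply, key]

theorem nonempty_homology_iso : Nonempty ((secComplex R).homology p ≅ Sheaf.cohomologyPresheaf.{u} F p) := by
  haveI := epi_cyclesToCoh R p
  have w : (secComplex R).toCycles ((ComplexShape.up ℕ).prev p) p ≫ cyclesToCoh R p = 0 := by
    ext U t
    exact (cyclesToCoh_eq_zero_iff R p U _).2 ⟨t, rfl⟩
  have hS : (ShortComplex.mk _ _ w).Exact := Groth.Agent.Lead.Flasque.Derived.exact_of_evaluation _ fun U =>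
    (ShortComplex.ab_exact_iff _).2 fun x hx => (cyclesToCoh_eq_zero_iff R p U x).1 hx
  exact ⟨((secComplex R).homologyIsCokernel _ p rfl).coconePointUniqueUpToIso hS.gIsCokernel⟩

/-- `R^i f_*` is the sheafification of the cohomology presheaf -/
theorem nonempty_Rpush_iso {D : Type u} [SmallCategory D] (K : GrothendieckTopology D) (f : D ⥤ C) [f.IsContinuous K J] (F : Sheaf J AddCommGrpCat.{u}) (i : ℕ) :
    Nonempty ((CohSite.Rpush J K f i).obj F ≅
      (presheafToSheaf K AddCommGrpCat.{u}).obj
        (f.op ⋙ Sheaf.cohomologyPresheaf.{u} F i)) := by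
  let R := injectiveResolution F
  let W := (Functor.whiskeringLeft _ _ AddCommGrpCat.{u}).obj f.op
  let a := presheafToSheaf K AddCommGrpCat.{u}
  obtain ⟨e⟩ := nonempty_homology_iso R i
  let θ : sheafToPresheaf _ _ ⋙ W ⋙ a ≅ CohSite.push J K f :=
    Functor.isoWhiskerLeft (CohSite.push J K f) (asIso (sheafificationAdjunction _ _).counit) ≪≫ Functor.rightUnitor _
  haveI : (W ⋙ a).PreservesHomology := inferInstance
  exact ⟨R.isoRightDerivedObj (CohSite.push J K f) i ≪≫
    (HomologicalComplex.homologyFunctor _ _ i).mapIso ((NatIso.mapHomologicalComplex θ.symm _).app R.cocomplex) ≪≫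
    ((secComplex R).sc i).mapHomologyIso (W ⋙ a) ≪≫ (W ⋙ a).mapIso e⟩

end Groth.Agent.Lead.SiteCoh.Derived
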