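import Groth.Agent.Lead.SiteCoh.CechH0
import Mathlib.Algebra.Homology.HomologySequenceLemmas
import Mathlib.Algebra.Homology.DerivedCategory.Ext.ExtClass

/-!
The comparison maps from Čech cohomology to cohomology: existence and uniqueness.
-/

set_option autoImplicit false

open CategoryTheory Limits Opposite Abelian

universe u

namespace Groth.Agent.Lead.SiteCoh.Cech

variable {C : Type u} [SmallCategory C] {J : GrothendieckTopology C} {U : C}

theorem HUmap_apply {F G : Sheaf J AddCommGrpCat.{u}} (ψ : F ⟶ G) (p : ℕ) (x : CohSite.HU F p U) :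
    CechEdge.HUmap ψ p U x = Ext.comp x (Ext.mk₀ ψ) (add_zero p) := rfl

theorem HUmap_comp {F G H : Sheaf J AddCommGrpCat.{u}} (ψ : F ⟶ G) (χ : G ⟶ H) (p : ℕ) (x : CohSite.HU F p U) :
    CechEdge.HUmap (ψ ≫ χ) p U x = CechEdge.HUmap χ p U (CechEdge.HUmap ψ p U x) :=
  congrArg (fun f : (CohSite.HU F p U) →+ CohSite.HU H p U => f x)
    (show CechEdge.HUmap (ψ ≫ χ) p U = (CechEdge.HUmap χ p U).comp (CechEdge.HUmap ψ p U) by
      simp only [CechEdge.HUmap, Functor.map_comp]; rfl)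

theorem HUmap_bijective {F G : Sheaf J AddCommGrpCat.{u}} (ψ : F ⟶ G) [IsIso ψ] (p : ℕ) :
    Function.Bijective (CechEdge.HUmap ψ p U) :=
  (ConcreteCategory.isIso_iff_bijective (((Sheaf.cohomologyPresheafFunctor J p).map ψ).app (op U))).1 inferInstance

theorem extδ_naturality {S₁ S₂ : ShortComplex (Sheaf J AddCommGrpCat.{u})} (h₁ : S₁.ShortExact) (h₂ : S₂.ShortExact)
    (φ : S₁ ⟶ S₂) (p : ℕ) (x : CohSite.HU S₁.X₃ p U) :
    CechEdge.HUmap φ.τ₁ (p + 1) U (CechEdge.extδ h₁ U p x) =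
      CechEdge.extδ h₂ U p (CechEdge.HUmap φ.τ₃ p U x) := by
  show (Ext.comp x h₁.extClass rfl).comp (Ext.mk₀ φ.τ₁) (add_zero _) =
    (Ext.comp x (Ext.mk₀ φ.τ₃) (add_zero p)).comp h₂.extClass rfl
  rw [Ext.comp_assoc x h₁.extClass (Ext.mk₀ φ.τ₁) rfl (add_zero 1) (by omega),
    Ext.comp_assoc x (Ext.mk₀ φ.τ₃) h₂.extClass (add_zero p) (zero_add 1) (by omega), ShortComplex.ShortExact.extClass_naturality h₁ h₂ φ]

theorem extδ_HUmap_g {S : ShortComplex (Sheaf J AddCommGrpCat.{u})} (hS : S.ShortExact) (p : ℕ)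
    (x : CohSite.HU S.X₂ p U) : CechEdge.extδ hS U p (CechEdge.HUmap S.g p U x) = 0 := by
  show (Ext.comp x (Ext.mk₀ S.g) (add_zero p)).comp hS.extClass rfl = 0
  rw [Ext.comp_assoc x (Ext.mk₀ S.g) hS.extClass (add_zero p) (zero_add 1) (by omega), hS.comp_extClass, Ext.comp_zero]

variable [HasPullbacks C] {ι : Type u} (Y : ι → Over U)

theorem proj_cxMap {P Q : Cᵒᵖ ⥤ AddCommGrpCat.{u}} (φ : P ⟶ Q) (n : ℕ) (w : (CechEdge.cx P Y).X n)
    (a : Fin (n + 1) → ι) :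
    proj Y Q a (((CechEdge.cxFunctor Y).map φ).f n w) = φ.app _ (proj Y P a w) :=
  congrArg (fun f : (CechEdge.cx P Y).X n ⟶ _ => f w) (Pi.map_π
    (fun b : Fin (n + 1) → ι => φ.app (op (Z Y b).left)) a)

theorem shortExact_cxP {S : ShortComplex (Cᵒᵖ ⥤ AddCommGrpCat.{u})} (hS : S.ShortExact) :
    (S.map (CechEdge.cxFunctor Y)).ShortExact := by
  refine HomologicalComplex.shortExact_of_degreewise_shortExact _ fun n => ?_
  have h : ∀ W, (S.map ((evaluation _ AddCommGrpCat.{u}).obj W)).ShortExact := fun W => hS.map_of_exact _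
  refine ShortComplex.ShortExact.mk' ?_ ?_ ?_
  · refine (ShortComplex.ab_exact_iff _).2 fun w hw => ?_
    choose z hz using fun a : Fin (n + 1) → ι => (ShortComplex.ab_exact_iff _).1 (h (op (Z Y a).left)).exact
      (proj Y S.X₂ a w) ((proj_cxMap Y S.g n w a).symm.trans ((congrArg (proj Y S.X₃ a) hw).trans (map_zero _)))
    exact ⟨mk S.X₁ z, ext_proj _ fun a => ((proj_cxMap Y S.f n _ a).trans ((congrArg _ (proj_mk _ z a)).trans (hz a)))⟩
  · refine (AddCommGrpCat.mono_iff_injective _).2 fun w w' e => ext_proj _ fun a =>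
      (AddCommGrpCat.mono_iff_injective _).1 (h (op (Z Y a).left)).mono_f ?_
    exact (proj_cxMap Y S.f n w a).symm.trans ((congrArg (proj Y S.X₂ a) e).trans (proj_cxMap Y S.f n w' a))
  · refine (AddCommGrpCat.epi_iff_surjective _).2 fun w => ?_
    choose z hz using fun a : Fin (n + 1) → ι =>
      (AddCommGrpCat.epi_iff_surjective _).1 (h (op (Z Y a).left)).epi_g (proj Y S.X₃ a w)
    exact ⟨mk S.X₂ z, ext_proj _ fun a => ((proj_cxMap Y S.g n _ a).trans ((congrArg _ (proj_mk _ z a)).trans (hz a)))⟩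

theorem cechHMap_comp {P Q R : Cᵒᵖ ⥤ AddCommGrpCat.{u}} (φ : P ⟶ Q) (ψ : Q ⟶ R) (p : ℕ) (x : CohCx.cechH P Y p) :
    CechEdge.cechHMap Y (φ ≫ ψ) p x = CechEdge.cechHMap Y ψ p (CechEdge.cechHMap Y φ p x) := by
  simp only [CechEdge.cechHMap, Functor.map_comp, HomologicalComplex.homologyMap_comp]
  rfl

variable {S : ShortComplex (Cᵒᵖ ⥤ AddCommGrpCat.{u})} (hC : (S.map (CechEdge.cxFunctor Y)).ShortExact)

theorem δ_surjective (p : ℕ) (h : IsZero (CohCx.cechH S.X₂ Y (p + 1))) :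
    Function.Surjective (hC.δ p (p + 1) rfl) := fun x =>
  (ShortComplex.ab_exact_iff _).1 (hC.homology_exact₁ p (p + 1) rfl) x
    (congrArg (fun f : CohCx.cechH S.X₁ Y (p + 1) ⟶ CohCx.cechH S.X₂ Y (p + 1) => f x) (h.eq_of_tgt _ 0))

theorem exists_of_δ_eq_zero (p : ℕ) (x : CohCx.cechH S.X₃ Y p) (hx : hC.δ p (p + 1) rfl x = 0) :
    ∃ y, CechEdge.cechHMap Y S.g p y = x :=
  (ShortComplex.ab_exact_iff _).1 (hC.homology_exact₃ p (p + 1) rfl) x hx

theorem δ_nat {S' : ShortComplex (Cᵒᵖ ⥤ AddCommGrpCat.{u})} (hC' : (S'.map (CechEdge.cxFunctor Y)).ShortExact)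
    (φ : S ⟶ S') (p : ℕ) (x : CohCx.cechH S.X₃ Y p) :
    CechEdge.cechHMap Y φ.τ₁ (p + 1) (hC.δ p (p + 1) rfl x) =
      hC'.δ p (p + 1) rfl (CechEdge.cechHMap Y φ.τ₃ p x) :=
  congrArg (fun f : CohCx.cechH S.X₃ Y p ⟶ CohCx.cechH S'.X₁ Y (p + 1) => f x)
    (HomologicalComplex.HomologySequence.δ_naturality
      ((CechEdge.cxFunctor Y).mapShortComplex.map φ) hC hC' p (p + 1) rfl)

/-- the embedding into the cone presheaf of an overpresheaf -/
noncomputable abbrev coneS {P Q : Cᵒᵖ ⥤ AddCommGrpCat.{u}} (f : P ⟶ Q) : ShortComplex (Cᵒᵖ ⥤ AddCommGrpCat.{u}) :=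
  ShortComplex.mk (f ≫ toCone Q) (cokernel.π (f ≫ toCone Q)) (cokernel.condition _)

omit [HasPullbacks C] in
theorem shortExact_coneS {P Q : Cᵒᵖ ⥤ AddCommGrpCat.{u}} (f : P ⟶ Q) [Mono f] : (coneS f).ShortExact := by
  haveI := mono_toCone Q
  haveI : Mono (f ≫ toCone Q) := mono_comp _ _
  exact ShortComplex.ShortExact.mk' (ShortComplex.exact_of_g_is_cokernel _ (cokernelIsCokernel _))
    (inferInstance : Mono (f ≫ toCone Q)) (inferInstance : Epi (cokernel.π (f ≫ toCone Q)))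

/-- functoriality of the cone presheaf -/
noncomputable def coneMap {P Q : Cᵒᵖ ⥤ AddCommGrpCat.{u}} (φ : P ⟶ Q) : coneP P ⟶ coneP Q where
  app W := AddCommGrpCat.ofHom
    { toFun := fun x V h => φ.app (op V) (x V h)
      map_zero' := by funext V h; exact map_zero _
      map_add' := fun x y => by funext V h; exact map_add _ _ _ }
  naturality _ _ _ := rfl

omit [HasPullbacks C] in
theorem toCone_naturality {P Q : Cᵒᵖ ⥤ AddCommGrpCat.{u}} (φ : P ⟶ Q) :
    toCone P ≫ coneMap φ = φ ≫ toCone Q := by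
  ext W p; funext V h
  exact (NatTrans.naturality_apply φ h.op p)

/-- the map of cone sequences of a commutative square -/
noncomputable def coneSMap {P Q P' Q' : Cᵒᵖ ⥤ AddCommGrpCat.{u}} (f : P ⟶ Q) (f' : P' ⟶ Q')
    (a : P ⟶ P') (b : Q ⟶ Q') (w : a ≫ f' = f ≫ b) : coneS f ⟶ coneS f' where
  τ₁ := a
  τ₂ := coneMap b
  τ₃ := cokernel.map (f ≫ toCone Q) (f' ≫ toCone Q') a (coneMap b) (by
    rw [Category.assoc, toCone_naturality, ← Category.assoc, ← w, Category.assoc])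
  comm₁₂ := by show a ≫ f' ≫ toCone Q' = (f ≫ toCone Q) ≫ coneMap b; rw [Category.assoc, toCone_naturality, ← Category.assoc, ← Category.assoc, w]
  comm₂₃ := by simp

theorem δ_coneS_surjective {P Q : Cᵒᵖ ⥤ AddCommGrpCat.{u}} (f : P ⟶ Q) [Mono f] (p : ℕ) :
    Function.Surjective ((shortExact_cxP Y (shortExact_coneS f)).δ p (p + 1) rfl) :=
  δ_surjective Y _ p (isZero_cechH_coneP Q p)

variable (J)

/-- the sheafified cone sequence -/
theorem shortExact_shf {S : ShortComplex (Cᵒᵖ ⥤ AddCommGrpCat.{u})} (hS : S.ShortExact) :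
    (S.map (presheafToSheaf J AddCommGrpCat.{u})).ShortExact :=
  hS.map_of_exact _

/-- naturality of a family of comparison maps in one degree -/
def Nat' (p : ℕ) (e : ∀ P : Cᵒᵖ ⥤ AddCommGrpCat.{u}, CohCx.cechH P Y p →+ CohSite.HU (CechEdge.shf J P) p U) : Prop :=
  ∀ (P Q : Cᵒᵖ ⥤ AddCommGrpCat.{u}) (φ : P ⟶ Q) (x : CohCx.cechH P Y p),
    e Q (CechEdge.cechHMap Y φ p x) = CechEdge.HUmap (CechEdge.shfMap J φ) p U (e P x)

theorem exists_succ (p : ℕ) (e : ∀ P : Cᵒᵖ ⥤ AddCommGrpCat.{u}, CohCx.cechH P Y p →+ CohSite.HU (CechEdge.shf J P) p U)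
    (hn : Nat' J Y p e) :
    ∃ e' : ∀ P : Cᵒᵖ ⥤ AddCommGrpCat.{u}, CohCx.cechH P Y (p + 1) →+ CohSite.HU (CechEdge.shf J P) (p + 1) U,
      Nat' J Y (p + 1) e' ∧ ∀ (S : ShortComplex (Cᵒᵖ ⥤ AddCommGrpCat.{u})) (hS : S.ShortExact)
        (hC : (S.map (CechEdge.cxFunctor Y)).ShortExact) (x : CohCx.cechH S.X₃ Y p),
        e' S.X₁ (hC.δ p (p + 1) rfl x) = CechEdge.extδ (shortExact_shf J hS) U p (e S.X₃ x) := by
  have ker : ∀ (S : ShortComplex (Cᵒᵖ ⥤ AddCommGrpCat.{u})) (hS : S.ShortExact)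
      (hC : (S.map (CechEdge.cxFunctor Y)).ShortExact) (x : CohCx.cechH S.X₃ Y p),
      hC.δ p (p + 1) rfl x = 0 → CechEdge.extδ (shortExact_shf J hS) U p (e S.X₃ x) = 0 := by
    intro S hS hC x hx
    obtain ⟨y, rfl⟩ := exists_of_δ_eq_zero Y hC p x hx
    rw [hn]
    exact extδ_HUmap_g (shortExact_shf J hS) p _
  let d : ∀ P : Cᵒᵖ ⥤ AddCommGrpCat.{u}, CohCx.cechH (coneS (𝟙 P)).X₃ Y p →+ CohCx.cechH P Y (p + 1) := fun P =>
    ((shortExact_cxP Y (shortExact_coneS (𝟙 P))).δ p (p + 1) rfl).hom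
  let e' : ∀ P : Cᵒᵖ ⥤ AddCommGrpCat.{u}, CohCx.cechH P Y (p + 1) →+ CohSite.HU (CechEdge.shf J P) (p + 1) U := fun P =>
    (d P).liftOfSurjective (δ_coneS_surjective Y (𝟙 P) p)
      ⟨(CechEdge.extδ (shortExact_shf J (shortExact_coneS (𝟙 P))) U p).comp (e (coneS (𝟙 P)).X₃),
        fun x hx => ker _ (shortExact_coneS (𝟙 P)) _ x hx⟩
  have he' : ∀ P x, e' P (d P x) = CechEdge.extδ (shortExact_shf J (shortExact_coneS (𝟙 P))) U p (e _ x) :=
    fun P x => (d P).liftOfRightInverse_comp_apply _ _ _ x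
  refine ⟨e', fun P Q φ x => ?_, fun S hS hC x => ?_⟩
  · obtain ⟨y, rfl⟩ := δ_coneS_surjective Y (𝟙 P) p x
    let μ := coneSMap (𝟙 P) (𝟙 Q) φ φ (by simp)
    show e' Q (CechEdge.cechHMap Y μ.τ₁ (p + 1) _) = _
    rw [δ_nat Y _ (shortExact_cxP Y (shortExact_coneS (𝟙 Q))) μ]
    refine (he' Q _).trans ?_
    rw [hn]
    refine (extδ_naturality (shortExact_shf J (shortExact_coneS (𝟙 P))) (shortExact_shf J (shortExact_coneS (𝟙 Q)))
      ((presheafToSheaf J AddCommGrpCat.{u}).mapShortComplex.map μ) p (e _ y)).symm.trans ?_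
    exact congrArg (CechEdge.HUmap (CechEdge.shfMap J φ) (p + 1) U) (he' P y).symm
  · haveI := hS.mono_f
    obtain ⟨y, hy⟩ := δ_coneS_surjective Y (𝟙 S.X₁) p (hC.δ p (p + 1) rfl x)
    rw [← hy]
    refine (he' _ y).trans ?_
    have w : S.f ≫ toCone S.X₂ ≫ (coneS S.f).g = 0 := by rw [← Category.assoc]; exact (coneS S.f).zero
    let α : S ⟶ coneS S.f :=
      { τ₁ := 𝟙 _
        τ₂ := toCone S.X₂
        τ₃ := hS.gIsCokernel.desc (CokernelCofork.ofπ (toCone S.X₂ ≫ (coneS S.f).g) w)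
        comm₁₂ := by show 𝟙 S.X₁ ≫ S.f ≫ toCone S.X₂ = S.f ≫ toCone S.X₂; rw [Category.id_comp]
        comm₂₃ := (hS.gIsCokernel.fac (CokernelCofork.ofπ (toCone S.X₂ ≫ (coneS S.f).g) w) WalkingParallelPair.one).symm }
    let β : coneS (𝟙 S.X₁) ⟶ coneS S.f := coneSMap (𝟙 S.X₁) S.f (𝟙 _) S.f (by simp)
    have hid : ∀ z, CechEdge.cechHMap Y (𝟙 S.X₁) (p + 1) z = z := fun z => by
      simp only [CechEdge.cechHMap, CategoryTheory.Functor.map_id, HomologicalComplex.homologyMap_id]; rfl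
    have hid' : ∀ z, CechEdge.HUmap (CechEdge.shfMap J (𝟙 S.X₁)) (p + 1) U z = z := fun z => by
      simp only [CechEdge.HUmap, CechEdge.shfMap, CategoryTheory.Functor.map_id, NatTrans.id_app]; rfl
    have hT := shortExact_coneS S.f
    have h1 := δ_nat Y (shortExact_cxP Y (shortExact_coneS (𝟙 S.X₁))) (shortExact_cxP Y hT) β p y
    have h2 := δ_nat Y hC (shortExact_cxP Y hT) α p x
    have h3 := extδ_naturality (shortExact_shf J (shortExact_coneS (𝟙 S.X₁))) (shortExact_shf J hT)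
      ((presheafToSheaf J AddCommGrpCat.{u}).mapShortComplex.map β) p (e _ y)
    have h4 := extδ_naturality (shortExact_shf J hS) (shortExact_shf J hT)
      ((presheafToSheaf J AddCommGrpCat.{u}).mapShortComplex.map α) p (e _ x)
    refine ((hid' _).symm.trans (h3.trans ?_)).trans (h4.symm.trans (hid' _))
    refine ((congrArg (CechEdge.extδ (shortExact_shf J hT) U p) (hn _ _ β.τ₃ y)).symm.trans ?_).trans
      (congrArg (CechEdge.extδ (shortExact_shf J hT) U p) (hn _ _ α.τ₃ x))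
    rw [← sub_eq_zero, ← map_sub]
    refine (congrArg (CechEdge.extδ (shortExact_shf J hT) U p) (map_sub (e (coneS S.f).X₃) _ _).symm).trans ?_
    refine ker _ hT (shortExact_cxP Y hT) _ ?_
    refine (map_sub _ _ _).trans (sub_eq_zero.2 (h1.symm.trans (Eq.trans ?_ h2)))
    exact congrArg _ hy

variable (hY : Sieve.ofArrows (fun i => (Y i).left) (fun i => (Y i).hom) ∈ J U)

include hY in
theorem toCech_bijective_shf (P : Cᵒᵖ ⥤ AddCommGrpCat.{u}) :
    Function.Bijective (CechEdge.toCech Y (CechEdge.shf J P).obj) :=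
  toCech_bijective Y _ ((Presieve.isSheafFor_iff_generate _).2
    (((isSheaf_iff_isSheaf_of_type _ _).1
      ((sheafCompose J (forget AddCommGrpCat.{u})).obj (CechEdge.shf J P)).property).isSheafFor _
        (by rw [Sieve.generate_sieve]; exact hY)))

/-- the comparison in degree zero -/
noncomputable def e0 (P : Cᵒᵖ ⥤ AddCommGrpCat.{u}) : CohCx.cechH P Y 0 →+ CohSite.HU (CechEdge.shf J P) 0 U :=
  (CechEdge.sectH0 J U (CechEdge.shf J P)).toAddMonoidHom.comp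
    ((AddEquiv.ofBijective _ (toCech_bijective_shf J Y hY P)).symm.toAddMonoidHom.comp
      (CechEdge.cechHMap Y (toSheafify J P) 0))

omit [HasPullbacks C] in
theorem sectH0_naturality {F G : Sheaf J AddCommGrpCat.{u}} (ψ : F ⟶ G) (s : F.obj.obj (op U)) :
    CechEdge.sectH0 J U G (ψ.hom.app (op U) s) = CechEdge.HUmap ψ 0 U (CechEdge.sectH0 J U F s) := by
  apply (CechEdge.sectH0 J U G).symm.injective
  rw [AddEquiv.symm_apply_apply, HUmap_apply]
  show _ = CohFree.homEquivSect J U G (Ext.addEquiv₀ ((Ext.mk₀ ((CohFree.homEquivSect J U F).symm s)).comp (Ext.mk₀ ψ) rfl))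
  rw [Ext.mk₀_comp_mk₀]
  erw [AddEquiv.apply_symm_apply]
  conv_lhs => rw [← (CohFree.homEquivSect J U F).apply_symm_apply s]
  rfl

theorem e0_spec (P : Cᵒᵖ ⥤ AddCommGrpCat.{u}) (x : CohCx.cechH P Y 0) (s : (CechEdge.shf J P).obj.obj (op U))
    (h : CechEdge.toCech Y (CechEdge.shf J P).obj s = CechEdge.cechHMap Y (toSheafify J P) 0 x) :
    e0 J Y hY P x = CechEdge.sectH0 J U _ s :=
  congrArg (CechEdge.sectH0 J U _) ((AddEquiv.ofBijective _ (toCech_bijective_shf J Y hY P)).injective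
    ((AddEquiv.apply_symm_apply _ _).trans h.symm))

theorem nat'_e0 : Nat' J Y 0 (e0 J Y hY) := by
  intro P Q φ x
  obtain ⟨s, hs⟩ := (toCech_bijective_shf J Y hY P).2 (CechEdge.cechHMap Y (toSheafify J P) 0 x)
  rw [e0_spec J Y hY P x s hs, e0_spec J Y hY Q _ ((CechEdge.shfMap J φ).hom.app (op U) s) ?_]
  · exact sectH0_naturality J _ s
  · rw [← toCech_naturality, hs, ← cechHMap_comp, ← cechHMap_comp]
    exact congrArg (fun χ => CechEdge.cechHMap Y χ 0 x) (toSheafify_naturality J φ).symm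

include hY in
theorem exists_isEdge : ∃ e : ∀ (P : Cᵒᵖ ⥤ AddCommGrpCat.{u}) (p : ℕ), CohCx.cechH P Y p →+
    CohSite.HU (CechEdge.shf J P) p U, CechEdge.IsEdge J Y e := by
  let E : ∀ p : ℕ, {e : ∀ P : Cᵒᵖ ⥤ AddCommGrpCat.{u}, CohCx.cechH P Y p →+ CohSite.HU (CechEdge.shf J P) p U //
      Nat' J Y p e} := fun p => Nat.rec ⟨e0 J Y hY, nat'_e0 J Y hY⟩
        (fun p e => ⟨_, (exists_succ J Y p e.1 e.2).choose_spec.1⟩) p
  refine ⟨fun P p => (E p).1 P, ⟨hY, fun P s => ?_, fun P Q φ p x => (E p).2 P Q φ x, fun S hS hC p x => ?_⟩⟩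
  · exact e0_spec J Y hY P _ _ (toCech_naturality Y P (toSheafify J P) s).symm
  · exact (exists_succ J Y p (E p).1 (E p).2).choose_spec.2 S hS hC x

theorem isEdge_unique (e e' : ∀ (P : Cᵒᵖ ⥤ AddCommGrpCat.{u}) (p : ℕ), CohCx.cechH P Y p →+
    CohSite.HU (CechEdge.shf J P) p U) (he : CechEdge.IsEdge J Y e) (he' : CechEdge.IsEdge J Y e') : e = e' := by
  suffices h : ∀ p P, e P p = e' P p from funext fun P => funext fun p => h p P
  intro p
  induction p with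
  | zero =>
    intro P
    refine AddMonoidHom.ext fun x => (HUmap_bijective (CechEdge.shfMap J (toSheafify J P)) 0).1 ?_
    rw [← he.natural, ← he'.natural]
    obtain ⟨s, hs⟩ := (toCech_bijective_shf J Y he.cover P).2 (CechEdge.cechHMap Y (toSheafify J P) 0 x)
    rw [← hs]
    exact (he.zero _ s).trans (he'.zero _ s).symm
  | succ p ih =>
    intro P
    refine AddMonoidHom.ext fun x => ?_
    have hS := shortExact_coneS (𝟙 P)
    obtain ⟨y, rfl⟩ := δ_coneS_surjective Y (𝟙 P) p x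
    exact (he.delta _ hS (shortExact_cxP Y hS) p y).trans ((congrArg (CechEdge.extδ _ U p)
      (congrArg (fun f : CohCx.cechH (coneS (𝟙 P)).X₃ Y p →+ _ => f y) (ih _))).trans
        (he'.delta _ hS (shortExact_cxP Y hS) p y).symm)

end Groth.Agent.Lead.SiteCoh.Cech
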