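import Groth.Agent.Lead.SiteCoh.Edge
import Groth.Agent.Lead.SiteCoh.CechAcyc

/-!
The comparison map for sheaves: acyclic coverings and injectivity in degree one.
-/

set_option autoImplicit false

open CategoryTheory Limits Opposite Abelian

universe u

namespace Groth.Agent.Lead.SiteCoh.Cech

variable {C : Type u} [SmallCategory C] [HasPullbacks C] {J : GrothendieckTopology C} {U : C} {ι : Type u}
  {Y : ι → Over U}
  {e : ∀ (P : Cᵒᵖ ⥤ AddCommGrpCat.{u}) (p : ℕ), CohCx.cechH P Y p →+ CohSite.HU (CechEdge.shf J P) p U}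
  (he : CechEdge.IsEdge J Y e)

/-- the counit -/
noncomputable abbrev cou (F : Sheaf J AddCommGrpCat.{u}) : CechEdge.shf J F.obj ⟶ F :=
  (sheafificationAdjunction J AddCommGrpCat.{u}).counit.app F

include he

theorem edgeSh_natural {F G : Sheaf J AddCommGrpCat.{u}} (ψ : F ⟶ G) (p : ℕ) (x : CohCx.cechH F.obj Y p) :
    CechEdge.edgeSh e G p (CechEdge.cechHMap Y ψ.hom p x) = CechEdge.HUmap ψ p U (CechEdge.edgeSh e F p x) := by
  show CechEdge.HUmap (cou G) p U (e G.obj p _) = CechEdge.HUmap ψ p U (CechEdge.HUmap (cou F) p U (e F.obj p x))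
  rw [he.natural, ← HUmap_comp, ← HUmap_comp]
  exact congrArg (fun χ => CechEdge.HUmap χ p U (e F.obj p x))
    ((sheafificationAdjunction J AddCommGrpCat.{u}).counit.naturality ψ)

theorem edgeSh_zero_bijective (F : Sheaf J AddCommGrpCat.{u}) : Function.Bijective (CechEdge.edgeSh e F 0) := by
  have hb : Function.Bijective (CechEdge.toCech Y F.obj) := toCech_bijective Y _ ((Presieve.isSheafFor_iff_generate _).2
    (((isSheaf_iff_isSheaf_of_type _ _).1
      ((sheafCompose J (forget AddCommGrpCat.{u})).obj F).property).isSheafFor _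
        (by rw [Sieve.generate_sieve]; exact he.cover)))
  refine (Function.Bijective.of_comp_iff _ hb).1 ?_
  have hc : (fun x => CechEdge.edgeSh e F 0 (CechEdge.toCech Y F.obj x)) = CechEdge.sectH0 J U F := by
    funext s
    show CechEdge.HUmap (cou F) 0 U (e F.obj 0 _) = _
    rw [he.zero, ← sectH0_naturality J (cou F), ← ConcreteCategory.comp_apply, ← NatTrans.comp_app]
    have h : toSheafify J F.obj ≫ (cou F).hom = 𝟙 F.obj := by
      rw [sheafificationAdjunction_counit_app_val]
      exact toSheafify_sheafifyLift J _ _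
    rw [h]
    rfl
  exact (congrArg Function.Bijective hc).symm ▸ (CechEdge.sectH0 J U F).bijective

omit he in
/-- the presheaf cokernel in the sheaf cokernel -/
noncomputable def quotMap (S : ShortComplex (Sheaf J AddCommGrpCat.{u})) : cokernel S.f.hom ⟶ S.X₃.obj :=
  cokernel.desc S.f.hom S.g.hom (congrArg (fun χ => χ.hom) S.zero)

theorem edgeSh_δ {S : ShortComplex (Sheaf J AddCommGrpCat.{u})} (hS : S.ShortExact)
    (hP : (ShortComplex.mk S.f.hom (cokernel.π S.f.hom) (cokernel.condition _)).ShortExact)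
    (hC : ((ShortComplex.mk S.f.hom (cokernel.π S.f.hom) (cokernel.condition _)).map (CechEdge.cxFunctor Y)).ShortExact)
    (p : ℕ) (x : CohCx.cechH (cokernel S.f.hom) Y p) :
    CechEdge.edgeSh e S.X₁ (p + 1) (hC.δ p (p + 1) rfl x) =
      CechEdge.extδ hS U p (CechEdge.edgeSh e S.X₃ p (CechEdge.cechHMap Y (quotMap S) p x)) := by
  let T := ShortComplex.mk S.f.hom (cokernel.π S.f.hom) (cokernel.condition _)
  let adj := sheafificationAdjunction J AddCommGrpCat.{u}
  let φ : T.map (presheafToSheaf J AddCommGrpCat.{u}) ⟶ S :=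
    { τ₁ := cou S.X₁
      τ₂ := cou S.X₂
      τ₃ := CechEdge.shfMap J (quotMap S) ≫ cou S.X₃
      comm₁₂ := (adj.counit.naturality S.f).symm
      comm₂₃ := by
        have h1 : cokernel.π S.f.hom ≫ quotMap S = S.g.hom := cokernel.π_desc _ _ _
        refine Eq.trans (adj.counit.naturality S.g).symm ?_
        show CechEdge.shfMap J S.g.hom ≫ cou S.X₃ = CechEdge.shfMap J (cokernel.π S.f.hom) ≫ CechEdge.shfMap J (quotMap S) ≫ cou S.X₃
        rw [← Category.assoc, ← h1]
        exact congrArg (· ≫ cou S.X₃) (Functor.map_comp _ _ _) }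
  show CechEdge.HUmap φ.τ₁ (p + 1) U (e T.X₁ (p + 1) _) =
    CechEdge.extδ hS U p (CechEdge.HUmap (cou S.X₃) p U (e S.X₃.obj p _))
  refine (congrArg (CechEdge.HUmap φ.τ₁ (p + 1) U) (he.delta T hP hC p x)).trans ?_
  refine (extδ_naturality _ hS φ p (e T.X₃ p x)).trans (congrArg (CechEdge.extδ hS U p) ?_)
  rw [he.natural, ← HUmap_comp]
  rfl

theorem exists_of_extδ_eq_zero {S : ShortComplex (Sheaf J AddCommGrpCat.{u})} (hS : S.ShortExact) (p : ℕ)
    (z : CohSite.HU S.X₃ p U) (hz : CechEdge.extδ hS U p z = 0) : ∃ v, CechEdge.HUmap S.g p U v = z :=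
  Ext.covariant_sequence_exact₃ (CohCx.freeSheaf J U) hS z rfl hz

omit he in
theorem shortExact_preCoker {S : ShortComplex (Sheaf J AddCommGrpCat.{u})} (hS : S.ShortExact) :
    (ShortComplex.mk S.f.hom (cokernel.π S.f.hom) (cokernel.condition _)).ShortExact := by
  haveI := hS.mono_f
  haveI : Mono S.f.hom := inferInstanceAs (Mono ((sheafToPresheaf J AddCommGrpCat.{u}).map S.f))
  exact ShortComplex.ShortExact.mk' (ShortComplex.exact_of_g_is_cokernel _ (cokernelIsCokernel _))
    (inferInstance : Mono S.f.hom) (inferInstance : Epi (cokernel.π S.f.hom))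

omit he [HasPullbacks C] in
theorem mono_quotMap {S : ShortComplex (Sheaf J AddCommGrpCat.{u})} (hS : S.ShortExact) : Mono (quotMap S) :=
  (hS.exact.map_of_mono_of_preservesKernel (sheafToPresheaf J AddCommGrpCat.{u}) hS.mono_f inferInstance).mono_cokernelDesc

omit he in
theorem cxMap_quotMap_injective {S : ShortComplex (Sheaf J AddCommGrpCat.{u})} (hS : S.ShortExact) :
    Function.Injective (CechEdge.cechHMap Y (quotMap S) 0) := by
  haveI := mono_quotMap hS
  haveI : Mono (((CechEdge.cxFunctor Y).map (quotMap S)).f 0) := (AddCommGrpCat.mono_iff_injective _).2 fun w w' h =>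
    ext_proj _ fun a => (AddCommGrpCat.mono_iff_injective ((quotMap S).app (op (Z Y a).left))).1 inferInstance
      ((proj_cxMap Y _ 0 w a).symm.trans ((congrArg (proj Y _ a) h).trans (proj_cxMap Y _ 0 w' a)))
  haveI : Mono (HomologicalComplex.cyclesMap ((CechEdge.cxFunctor Y).map (quotMap S)) 0) := by
    haveI : Mono (HomologicalComplex.cyclesMap ((CechEdge.cxFunctor Y).map (quotMap S)) 0 ≫
        (CechEdge.cx S.X₃.obj Y).iCycles 0) := by
      rw [show HomologicalComplex.cyclesMap ((CechEdge.cxFunctor Y).map (quotMap S)) 0 ≫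
        (CechEdge.cx S.X₃.obj Y).iCycles 0 = _ from HomologicalComplex.cyclesMap_i _ _]
      exact mono_comp _ _
    exact mono_of_mono _ ((CechEdge.cx S.X₃.obj Y).iCycles 0)
  intro x x' h
  obtain ⟨z, rfl⟩ := ((ConcreteCategory.isIso_iff_bijective ((CechEdge.cx _ Y).homologyπ 0)).1 inferInstance).2 x
  obtain ⟨z', rfl⟩ := ((ConcreteCategory.isIso_iff_bijective ((CechEdge.cx _ Y).homologyπ 0)).1 inferInstance).2 x'
  have e := HomologicalComplex.homologyπ_naturality ((CechEdge.cxFunctor Y).map (quotMap S)) 0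
  refine congrArg _ ((AddCommGrpCat.mono_iff_injective _).1
    (inferInstance : Mono (HomologicalComplex.cyclesMap ((CechEdge.cxFunctor Y).map (quotMap S)) 0)) ?_)
  refine ((ConcreteCategory.isIso_iff_bijective ((CechEdge.cx S.X₃.obj Y).homologyπ 0)).1 inferInstance).1 ?_
  exact ((congrArg (fun f : (CechEdge.cx (cokernel S.f.hom) Y).cycles 0 ⟶ CohCx.cechH S.X₃.obj Y 0 => f z) e).symm.trans h).trans
    (congrArg (fun f : (CechEdge.cx (cokernel S.f.hom) Y).cycles 0 ⟶ CohCx.cechH S.X₃.obj Y 0 => f z') e)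

theorem injective_succ (F : Sheaf J AddCommGrpCat.{u}) (p : ℕ)
    (hj : Function.Injective (CechEdge.cechHMap Y (quotMap (injS F)) p))
    (hI : Function.Surjective (CechEdge.edgeSh e (Injective.under F) p))
    (hQ : Function.Injective (CechEdge.edgeSh e (injS F).X₃ p)) :
    Function.Injective (CechEdge.edgeSh e F (p + 1)) := by
  refine (injective_iff_map_eq_zero _).2 fun x hx => ?_
  have hS := shortExact_injS F
  have hC := shortExact_cxP Y (shortExact_preCoker hS)
  obtain ⟨x, rfl⟩ := δ_surjective Y hC p (isZero_cechH_injective (Injective.under F) Y p) x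
  have hd := (edgeSh_δ he hS (shortExact_preCoker hS) hC p x).symm.trans hx
  obtain ⟨v, hv⟩ := exists_of_extδ_eq_zero he hS p _ hd
  obtain ⟨t, rfl⟩ := hI v
  rw [← edgeSh_natural he] at hv
  have h1 : CechEdge.cechHMap Y (quotMap (injS F)) p (CechEdge.cechHMap Y (cokernel.π (injS F).f.hom) p t) =
      CechEdge.cechHMap Y (quotMap (injS F)) p x := by
    rw [← cechHMap_comp, quotMap, cokernel.π_desc]
    exact hQ hv
  rw [← hj h1]
  exact congrArg (fun f : CohCx.cechH (injS F).X₂.obj Y p ⟶ CohCx.cechH (injS F).X₁.obj Y (p + 1) => f t)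
    (hC.comp_δ p (p + 1) rfl)

theorem injective_one (F : Sheaf J AddCommGrpCat.{u}) : Function.Injective (CechEdge.edgeSh e F 1) :=
  injective_succ he F 0 (cxMap_quotMap_injective (shortExact_injS F)) (edgeSh_zero_bijective he _).2
    (edgeSh_zero_bijective he _).1

/-- higher cohomology vanishes on the iterated fibre products -/
def AcyclicOn (Y : ι → Over U) (F : Sheaf J AddCommGrpCat.{u}) : Prop :=
  ∀ (p : ℕ) (a : Fin (p + 1) → ι) (q : ℕ), Subsingleton (CohSite.HU F (q + 1) (∏ᶜ fun k => Y (a k)).left)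

theorem bijective_of_acyclicOn (p : ℕ) : ∀ F : Sheaf J AddCommGrpCat.{u}, AcyclicOn Y F →
    Function.Bijective (CechEdge.edgeSh e F p) := by
  induction p with
  | zero => exact fun F _ => edgeSh_zero_bijective he F
  | succ p ih =>
    intro F hF
    have hS := shortExact_injS F
    haveI : Injective (injS F).X₂ := (inferInstance : Injective (Injective.under F))
    have hI : AcyclicOn Y (Injective.under F) := fun m a q =>
      subsingleton_of_forall_eq 0 fun z => Ext.eq_zero_of_injective z
    have hQ : AcyclicOn Y (injS F).X₃ := fun m a q => by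
      refine subsingleton_of_forall_eq 0 fun z => ?_
      haveI := hF m a (q + 1)
      obtain ⟨z₂, rfl⟩ := Ext.covariant_sequence_exact₃ _ hS z rfl
        (Subsingleton.elim (α := CohSite.HU F (q + 1 + 1) (∏ᶜ fun k => Y (a k)).left) _ _)
      rw [Ext.eq_zero_of_injective z₂, Ext.zero_comp]; rfl
    haveI : ∀ n, IsIso (((CechEdge.cxFunctor Y).map (quotMap (injS F))).f n) := fun n => by
      haveI := mono_quotMap hS
      refine (ConcreteCategory.isIso_iff_bijective _).2 ⟨fun w w' h => ext_proj _ fun a =>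
        (AddCommGrpCat.mono_iff_injective ((quotMap (injS F)).app (op (Z Y a).left))).1 inferInstance
          ((proj_cxMap Y _ n w a).symm.trans ((congrArg (proj Y _ a) h).trans (proj_cxMap Y _ n w' a))), fun w => ?_⟩
      choose z hz using fun a : Fin (n + 1) → ι =>
        surjective_of_subsingleton hS (Z Y a).left (hF n a 0) (proj Y _ a w)
      refine ⟨mk _ fun a => (cokernel.π (injS F).f.hom).app (op (Z Y a).left) (z a), ext_proj _ fun a => ?_⟩
      refine (proj_cxMap Y _ n _ a).trans ((congrArg _ (proj_mk _ _ a)).trans (Eq.trans ?_ (hz a)))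
      exact congrArg (fun χ : (injS F).X₂.obj ⟶ (injS F).X₃.obj => χ.app (op (Z Y a).left) (z a)) (cokernel.π_desc _ _ _)
    haveI : IsIso ((CechEdge.cxFunctor Y).map (quotMap (injS F))) := HomologicalComplex.Hom.isIso_of_components _
    have hj : Function.Bijective (CechEdge.cechHMap Y (quotMap (injS F)) p) :=
      (ConcreteCategory.isIso_iff_bijective
        (HomologicalComplex.homologyMap ((CechEdge.cxFunctor Y).map (quotMap (injS F))) p)).1 inferInstance
    refine ⟨injective_succ he F p hj.1 (ih _ hI).2 (ih _ hQ).1, fun z => ?_⟩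
    obtain ⟨w, hw⟩ := Ext.covariant_sequence_exact₁ (CohCx.freeSheaf J U) hS z (Ext.eq_zero_of_injective _) (n₀ := p) rfl
    obtain ⟨x, hx⟩ := (ih _ hQ).2 w
    obtain ⟨x', rfl⟩ := hj.2 x
    exact ⟨_, (edgeSh_δ he hS (shortExact_preCoker hS) (shortExact_cxP Y (shortExact_preCoker hS)) p x').trans
      ((congrArg (CechEdge.extδ hS U p) hx).trans hw)⟩

end Groth.Agent.Lead.SiteCoh.Cech
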