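import Groth.Agent.Lead.Flasque.TorsionFree
import Mathlib.Algebra.Category.ModuleCat.Sheaf.Abelian
import Mathlib.Algebra.Category.ModuleCat.Presheaf.Sheafification
import Mathlib.Algebra.Category.ModuleCat.Presheaf.Abelian
import Mathlib.Algebra.Category.ModuleCat.Presheaf.EpiMono
import Mathlib.RingTheory.Flat.TorsionFree
import Mathlib.RingTheory.Flat.Equalizer
import Mathlib.LinearAlgebra.TensorProduct.Tower

/-!
Injective sheaves of modules over a sheaf of rings are totally acyclic abelian sheaves.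
-/

set_option autoImplicit false

universe u

open CategoryTheory Limits Opposite TensorProduct

namespace Groth.Agent.Lead.SiteCoh.ModAcyclic

section algebra

variable {R S : Type u} [Ring R] [Ring S] {M M' : Type u} [AddCommGroup M] [AddCommGroup M']
  {N N' : Type u} [AddCommGroup N] [AddCommGroup N'] [Module R N] [Module S N']

/-- `R ⊗ M → S ⊗ M'` -/
noncomputable def mapT (φ : R →+* S) (p : M →+ M') : R ⊗[ℤ] M →+ S ⊗[ℤ] M' :=
  (TensorProduct.map φ.toAddMonoidHom.toIntLinearMap p.toIntLinearMap).toAddMonoidHom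

theorem mapT_tmul (φ : R →+* S) (p : M →+ M') (r : R) (m : M) : mapT φ p (r ⊗ₜ m) = φ r ⊗ₜ p m := rfl

theorem mapT_smul (φ : R →+* S) (p : M →+ M') (r : R) (x : R ⊗[ℤ] M) : mapT φ p (r • x) = φ r • mapT φ p x := by
  induction x using TensorProduct.induction_on with
  | zero => simp
  | tmul s m => simp [TensorProduct.smul_tmul', mapT_tmul]
  | add a b ha hb => simp only [smul_add, map_add, ha, hb]

theorem mapT_ext (φ φ' : R →+* S) (p p' : M →+ M') (hφ : ∀ r, φ r = φ' r) (hp : ∀ m, p m = p' m) (x : R ⊗[ℤ] M) :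
    mapT φ p x = mapT φ' p' x := by
  obtain rfl : φ = φ' := RingHom.ext hφ
  obtain rfl : p = p' := AddMonoidHom.ext hp
  rfl

theorem mapT_id (x : R ⊗[ℤ] M) : mapT (RingHom.id R) (AddMonoidHom.id M) x = x := by
  induction x using TensorProduct.induction_on with
  | zero => simp
  | tmul s m => rfl
  | add a b ha hb => simp only [map_add, ha, hb]

theorem mapT_comp {T : Type u} [Ring T] {M'' : Type u} [AddCommGroup M''] (φ : R →+* S) (ψ : S →+* T)
    (p : M →+ M') (q : M' →+ M'') (x : R ⊗[ℤ] M) : mapT (ψ.comp φ) (q.comp p) x = mapT ψ q (mapT φ p x) := by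
  induction x using TensorProduct.induction_on with
  | zero => simp
  | tmul s m => rfl
  | add a b ha hb => simp only [map_add, ha, hb]

/-- the linear extension -/
noncomputable def extend (g : M →+ N) : R ⊗[ℤ] M →+ N :=
  TensorProduct.liftAddHom (AddMonoidHom.mk' (fun r : R => AddMonoidHom.mk' (fun m => r • g m)
      (fun a b => by rw [map_add, smul_add]))
    (fun a b => AddMonoidHom.ext fun m => add_smul a b (g m)))
    (fun n r m => by
      show (n • r) • g m = r • g (n • m)
      rw [map_zsmul, smul_comm r n, ← Int.cast_smul_eq_zsmul R n, ← Int.cast_smul_eq_zsmul R n (r • g m), smul_smul, smul_eq_mul])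

theorem extend_tmul (g : M →+ N) (r : R) (m : M) : extend g (r ⊗ₜ[ℤ] m) = r • g m := rfl

theorem extend_smul (g : M →+ N) (r : R) (x : R ⊗[ℤ] M) : extend g (r • x) = r • extend g x := by
  induction x using TensorProduct.induction_on with
  | zero => simp
  | tmul s m => rw [TensorProduct.smul_tmul', extend_tmul, extend_tmul, smul_eq_mul, mul_smul]
  | add a b ha hb => simp only [smul_add, map_add, ha, hb]

theorem extend_natural (φ : R →+* S) (p : M →+ M') (g : M →+ N) (g' : M' →+ N') (h : N →+ N')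
    (hh : ∀ (r : R) n, h (r • n) = φ r • h n) (hg : ∀ m, g' (p m) = h (g m)) (x : R ⊗[ℤ] M) :
    extend g' (mapT φ p x) = h (extend g x) := by
  induction x using TensorProduct.induction_on with
  | zero => simp
  | tmul s m => rw [mapT_tmul, extend_tmul, extend_tmul, hh, hg]
  | add a b ha hb => simp only [map_add, ha, hb]

end algebra

variable {C : Type u} [SmallCategory C] {J : GrothendieckTopology C} (O : Cᵒᵖ ⥤ RingCat.{u})

/-- `U ↦ O(U) ⊗_ℤ P(U)` as abelian groups -/
noncomputable def wAb (P : Cᵒᵖ ⥤ AddCommGrpCat.{u}) : Cᵒᵖ ⥤ AddCommGrpCat.{u} where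
  obj U := AddCommGrpCat.of (O.obj U ⊗[ℤ] P.obj U)
  map f := AddCommGrpCat.ofHom (mapT (O.map f).hom (P.map f).hom)
  map_id U := by
    refine AddCommGrpCat.hom_ext (AddMonoidHom.ext fun x => ?_)
    show mapT (O.map (𝟙 U)).hom (P.map (𝟙 U)).hom x = x
    rw [O.map_id, P.map_id]
    exact mapT_id x
  map_comp {U V W} f g := by
    refine AddCommGrpCat.hom_ext (AddMonoidHom.ext fun x => ?_)
    show mapT (O.map (f ≫ g)).hom (P.map (f ≫ g)).hom x =
      mapT (O.map g).hom (P.map g).hom (mapT (O.map f).hom (P.map f).hom x)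
    rw [O.map_comp, P.map_comp]
    exact mapT_comp _ _ _ _ x

noncomputable instance wMod (P : Cᵒᵖ ⥤ AddCommGrpCat.{u}) (U : Cᵒᵖ) : Module (O.obj U) ((wAb O P).obj U) :=
  (inferInstance : Module (O.obj U) (O.obj U ⊗[ℤ] P.obj U))

/-- `O ⊗_ℤ P` as a presheaf of modules -/
noncomputable def W (P : Cᵒᵖ ⥤ AddCommGrpCat.{u}) : PresheafOfModules.{u} O :=
  PresheafOfModules.ofPresheaf (wAb O P) fun {U V} f r m => mapT_smul (O.map f).hom (P.map f).hom r m

/-- the module structure on sections -/
noncomputable instance sectModule (N : PresheafOfModules.{u} O) (U : Cᵒᵖ) : Module (O.obj U) (N.presheaf.obj U) :=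
  (N.obj U).isModule

/-- the universal property of `O ⊗_ℤ P` -/
noncomputable def wlift {P : Cᵒᵖ ⥤ AddCommGrpCat.{u}} {N : PresheafOfModules.{u} O} (g : P ⟶ N.presheaf) : W O P ⟶ N :=
  PresheafOfModules.homMk (M₁ := W O P) (M₂ := N)
    { app := fun U => AddCommGrpCat.ofHom (extend (R := O.obj U) (N := N.presheaf.obj U) (g.app U).hom)
      naturality := fun U V f => by
        refine AddCommGrpCat.hom_ext (AddMonoidHom.ext fun x => ?_)
        exact extend_natural (O.map f).hom (P.map f).hom (g.app U).hom (g.app V).hom (N.presheaf.map f).hom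
          (fun r n => N.map_smul f r n) (fun m => ConcreteCategory.congr_hom (g.naturality f) m) x }
    fun U r x => extend_smul (R := O.obj U) (N := N.presheaf.obj U) (g.app U).hom r x

/-- functoriality, on the underlying groups -/
noncomputable def wAbMap {P Q : Cᵒᵖ ⥤ AddCommGrpCat.{u}} (i : P ⟶ Q) : wAb O P ⟶ wAb O Q where
  app U := AddCommGrpCat.ofHom (mapT (RingHom.id (O.obj U)) (i.app U).hom)
  naturality U V f := by
    refine AddCommGrpCat.hom_ext (AddMonoidHom.ext fun x => ?_)
    show mapT (RingHom.id _) (i.app V).hom (mapT (O.map f).hom (P.map f).hom x) =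
      mapT (O.map f).hom (Q.map f).hom (mapT (RingHom.id _) (i.app U).hom x)
    rw [← mapT_comp, ← mapT_comp]
    exact mapT_ext _ _ _ _ (fun r => rfl) (fun m => ConcreteCategory.congr_hom (i.naturality f) m) x

/-- functoriality -/
noncomputable def wmap {P Q : Cᵒᵖ ⥤ AddCommGrpCat.{u}} (i : P ⟶ Q) : W O P ⟶ W O Q :=
  PresheafOfModules.homMk (M₁ := W O P) (M₂ := W O Q) (wAbMap O i)
    fun U r x => mapT_smul (RingHom.id (O.obj U)) (i.app U).hom r x

/-- `m ↦ 1 ⊗ m` -/
noncomputable def wι (P : Cᵒᵖ ⥤ AddCommGrpCat.{u}) : P ⟶ (W O P).presheaf where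
  app U := AddCommGrpCat.ofHom
    (AddMonoidHom.mk' (fun m => ((1 : O.obj U) ⊗ₜ[ℤ] m : O.obj U ⊗[ℤ] P.obj U)) (fun a b => tmul_add _ a b))
  naturality U V f := by
    refine AddCommGrpCat.hom_ext (AddMonoidHom.ext fun m => ?_)
    show (1 : O.obj V) ⊗ₜ[ℤ] (P.map f).hom m = (O.map f).hom 1 ⊗ₜ (P.map f).hom m
    rw [map_one]

variable (R : Sheaf J RingCat.{u}) (G : SheafOfModules.{u} R) [Injective G]

/-- injective modules have the extension property for maps with torsion-free cokernel -/
theorem exists_extend {M E : Sheaf J AddCommGrpCat.{u}} (i : M ⟶ E) [Mono i] (hTF : Flasque.TF (cokernel i))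
    (g : M ⟶ (SheafOfModules.toSheaf R).obj G) : ∃ r : E ⟶ (SheafOfModules.toSheaf R).obj G, i ≫ r = g := by
  let adj := PresheafOfModules.sheafificationAdjunction (𝟙 R.obj)
  let a := wmap R.obj i.hom
  haveI : Mono a := by
    refine PresheafOfModules.mono_of_injective fun U => ?_
    let l : M.obj.obj U →ₗ[ℤ] E.obj.obj U := (i.hom.app U).hom.toIntLinearMap
    have hl : Function.Injective l := Flasque.injective_app i U
    have hex : Function.Exact (i.hom.app U) ((cokernel.π i).hom.app U) := by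
      let S : ShortComplex (Sheaf J AddCommGrpCat.{u}) := ShortComplex.mk i (cokernel.π i) (cokernel.condition i)
      let T := sheafToPresheaf J AddCommGrpCat.{u} ⋙ (evaluation Cᵒᵖ AddCommGrpCat.{u}).obj U
      have hS : (S.map T).Exact := ShortComplex.exact_of_f_is_kernel _
        (KernelFork.mapIsLimit _ (Abelian.monoIsKernelOfCokernel _ (cokernelIsCokernel i)) T)
      exact (ShortComplex.ab_exact_iff_function_exact _).1 hS
    haveI : Module.Flat ℤ (E.obj.obj U ⧸ LinearMap.range l) := by
      rw [Module.Flat.flat_iff_torsion_eq_bot_of_isBezout, Submodule.eq_bot_iff]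
      rintro y ⟨⟨n, hn⟩, hy⟩
      obtain ⟨x, rfl⟩ := Submodule.mkQ_surjective _ y
      change n • (LinearMap.range l).mkQ x = 0 at hy
      rw [← map_smul, Submodule.mkQ_apply, Submodule.Quotient.mk_eq_zero] at hy
      obtain ⟨m, hm⟩ := hy
      have hx : n • ((cokernel.π i).hom.app U).hom x = 0 := by
        rw [← map_zsmul, ← hm]
        exact hex.apply_apply_eq_zero m
      obtain hn' | hx' := hTF U n _ hx
      · exact absurd hn' (nonZeroDivisors.ne_zero hn)
      · obtain ⟨m', hm'⟩ := (hex x).1 hx'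
        exact (Submodule.Quotient.mk_eq_zero _).2 ⟨m', hm'⟩
    have h1 : Function.Injective (l.lTensor (R.obj.obj U)) :=
      LinearMap.lTensor_injective_of_exact_of_flat (LinearMap.range l).mkQ (Submodule.mkQ_surjective _) l hl
        (LinearMap.exact_map_mkQ_range l) (R.obj.obj U)
    exact h1
  obtain ⟨t, ht⟩ : ∃ t, (PresheafOfModules.sheafification (𝟙 R.obj)).map a ≫ t =
      (adj.homEquiv _ G).symm (wlift R.obj (N := ((SheafOfModules.forget R ⋙ PresheafOfModules.restrictScalars (𝟙 R.obj)).obj G)) g.hom) :=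
    ⟨Injective.factorThru _ _, Injective.comp_factorThru _ _⟩
  let v := adj.homEquiv _ G t
  have hv : a ≫ v = wlift R.obj (N := ((SheafOfModules.forget R ⋙ PresheafOfModules.restrictScalars (𝟙 R.obj)).obj G)) g.hom :=
    (adj.homEquiv_naturality_left a t).symm.trans ((congrArg _ ht).trans (Equiv.apply_symm_apply _ _))
  refine ⟨⟨wι R.obj E.obj ≫ (PresheafOfModules.toPresheaf _).map v⟩, Sheaf.hom_ext ?_⟩
  ext U m
  have h := congrArg (fun f : W R.obj M.obj ⟶ (SheafOfModules.forget R ⋙ PresheafOfModules.restrictScalars (𝟙 R.obj)).obj G => ((PresheafOfModules.toPresheaf _).map f).app U ((1 : R.obj.obj U) ⊗ₜ[ℤ] m)) hv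
  exact h.trans (@one_smul (R.obj.obj U) _ _ (G.val.obj U).isModule.toMulAction _)

theorem isTotallyAcyclic : CohCx.IsTotallyAcyclic ((SheafOfModules.toSheaf R).obj G) :=
  Flasque.isTotallyAcyclic_of_extend _ fun i _ h g => exists_extend R G i h g

end Groth.Agent.Lead.SiteCoh.ModAcyclic
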