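import Groth.Agent.Lead.SiteCoh.Basic
import Groth.Agent.OverExtend.KInjective
import Mathlib.CategoryTheory.Functor.Flat
import Mathlib.CategoryTheory.Sites.Adjunction

/-!
Totally acyclic sheaves: sections over arbitrary presheaves of sets, direct images, restriction.
-/

set_option autoImplicit false

open CategoryTheory Limits Opposite Abelian

universe u

namespace Groth.Agent.Lead.SiteCoh

variable {C : Type u} [SmallCategory C] {J : GrothendieckTopology C}

theorem subsingleton_ext_of_iso {X X' F : Sheaf J AddCommGrpCat.{u}} (e : X ≅ X') (n : ℕ)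
    (h : Subsingleton (Ext X' F n)) : Subsingleton (Ext X F n) := by
  refine subsingleton_of_forall_eq 0 fun x => ?_
  have : x = (Ext.mk₀ e.hom).comp ((Ext.mk₀ e.inv).comp x (zero_add n)) (zero_add n) := by
    rw [Ext.mk₀_comp_mk₀_assoc, e.hom_inv_id, Ext.mk₀_id_comp]
  rw [this, Subsingleton.elim ((Ext.mk₀ e.inv).comp x (zero_add n)) 0, Ext.comp_zero]

theorem isIso_freePMap {P Q : Cᵒᵖ ⥤ Type u} (α : P ⟶ Q) (h : J.W α) : IsIso (freePMap (J := J) α) :=
  haveI : J.PreservesSheafification AddCommGrpCat.free.{u} :=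
    Sheaf.preservesSheafification_of_adjunction J AddCommGrpCat.adj.{u}
  (J.W_iff _).1 (J.W_of_preservesSheafification AddCommGrpCat.free.{u} _ h)

theorem subsingleton_ext_freeP {F : Sheaf J AddCommGrpCat.{u}} (hF : CohCx.IsTotallyAcyclic F)
    (P : Cᵒᵖ ⥤ Type u) (n : ℕ) : Subsingleton (Ext (freeP P) F (n + 1)) := by
  haveI := isIso_freePMap (J := J) (toSheafify J P) (J.W_toSheafify P)
  exact subsingleton_ext_of_iso (asIso (freePMap (J := J) (toSheafify J P))) _
    (hF ((presheafToSheaf J (Type u)).obj P) n)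

theorem subsingleton_HU_of_isTotallyAcyclic {F : Sheaf J AddCommGrpCat.{u}} (hF : CohCx.IsTotallyAcyclic F)
    (U : C) (n : ℕ) : Subsingleton (CohSite.HU F (n + 1) U) :=
  subsingleton_ext_freeP hF (yoneda.obj U) n

theorem isTotallyAcyclic_of_injective (I : Sheaf J AddCommGrpCat.{u}) [Injective I] : CohCx.IsTotallyAcyclic I :=
  fun _ _ => subsingleton_of_forall_eq 0 fun x => Ext.eq_zero_of_injective x

variable {D : Type u} [SmallCategory D] (K : GrothendieckTopology D) (u : D ⥤ C) [u.IsContinuous K J]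

/-- maps of presheaves of sets into a direct image -/
noncomputable def lanEquiv (P : Dᵒᵖ ⥤ Type u) (Q : Cᵒᵖ ⥤ AddCommGrpCat.{u}) :
    (P ⟶ u.op ⋙ (Q ⋙ forget AddCommGrpCat.{u})) ≃ (u.op.lan.obj P ⟶ Q ⋙ forget AddCommGrpCat.{u}) :=
  ((u.op.lanAdjunction (Type u)).homEquiv P (Q ⋙ forget AddCommGrpCat.{u})).symm

omit [u.IsContinuous K J] in
theorem lanEquiv_comp (P : Dᵒᵖ ⥤ Type u) {Q Q' : Cᵒᵖ ⥤ AddCommGrpCat.{u}}
    (h : P ⟶ u.op ⋙ (Q ⋙ forget AddCommGrpCat.{u})) (φ : Q ⟶ Q') :
    lanEquiv u P Q' (h ≫ Functor.whiskerLeft u.op (Functor.whiskerRight φ (forget AddCommGrpCat.{u}))) =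
      lanEquiv u P Q h ≫ Functor.whiskerRight φ (forget AddCommGrpCat.{u}) := by
  unfold lanEquiv
  exact (u.op.lanAdjunction (Type u)).homEquiv_naturality_right_symm h (Functor.whiskerRight φ (forget AddCommGrpCat.{u}))

/-- maps of a free sheaf into a direct image -/
noncomputable def pushEquiv (P : Dᵒᵖ ⥤ Type u) (G : Sheaf J AddCommGrpCat.{u}) :
    (freeP P ⟶ (CohSite.push J K u).obj G) ≃ (freeP (u.op.lan.obj P) ⟶ G) :=
  (setEquiv P ((CohSite.push J K u).obj G)).trans ((lanEquiv u P G.obj).trans (setEquiv (u.op.lan.obj P) G).symm)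

theorem pushEquiv_comp (P : Dᵒᵖ ⥤ Type u) {G G' : Sheaf J AddCommGrpCat.{u}}
    (g : freeP P ⟶ (CohSite.push J K u).obj G) (φ : G ⟶ G') :
    pushEquiv K u P G' (g ≫ (CohSite.push J K u).map φ) = pushEquiv K u P G g ≫ φ := by
  show (setEquiv (u.op.lan.obj P) G').symm (lanEquiv u P G'.obj (setEquiv P _ (g ≫ (CohSite.push J K u).map φ))) = _
  rw [Equiv.symm_apply_eq]
  refine Eq.trans ?_ (setEquiv_comp (u.op.lan.obj P) _ φ).symm
  refine Eq.trans (congrArg (lanEquiv u P G'.obj) (setEquiv_comp P g ((CohSite.push J K u).map φ))) ?_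
  refine (lanEquiv_comp u P (setEquiv P _ g) φ.hom).trans ?_
  exact congrArg (· ≫ Functor.whiskerRight φ.hom (forget AddCommGrpCat.{u})) (Equiv.apply_symm_apply (setEquiv (u.op.lan.obj P) G) _).symm

theorem pushEquiv_zero (P : Dᵒᵖ ⥤ Type u) (G : Sheaf J AddCommGrpCat.{u}) : pushEquiv K u P G 0 = 0 := by
  have h := pushEquiv_comp K u P (0 : freeP P ⟶ (CohSite.push J K u).obj G) (0 : G ⟶ G)
  rw [zero_comp, comp_zero] at h
  exact h

/-- the direct image of a totally acyclic sheaf, when direct image preserves injectives -/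
theorem isTotallyAcyclic_push (hinj : ∀ I : Sheaf J AddCommGrpCat.{u}, Injective I → Injective ((CohSite.push J K u).obj I))
    {F : Sheaf J AddCommGrpCat.{u}} (hF : CohCx.IsTotallyAcyclic F) :
    CohCx.IsTotallyAcyclic ((CohSite.push J K u).obj F) := by
  intro L q
  let R := injectiveResolution F
  haveI : (CohSite.push J K u).IsRightAdjoint := (u.sheafAdjunctionContinuous AddCommGrpCat.{u} K J).isRightAdjoint
  haveI : PreservesFiniteLimits (CohSite.push J K u) := inferInstance
  obtain ⟨R', hR'⟩ := Lead.Flasque.ExtCompute.nonempty_mapResolution R (CohSite.push J K u) hinj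
    (fun n => isZero_Rpush_of_acyclic K u F n fun W => subsingleton_HU_of_isTotallyAcyclic hF _ n)
  show Subsingleton (Ext (freeP L.obj) _ (q + 1))
  rw [subsingleton_ext_iff R']
  obtain @⟨c', inj, hh, ι', qi⟩ := R'
  subst hR'
  intro f hf
  obtain ⟨g, hg⟩ := (subsingleton_ext_iff R _ q).1 (subsingleton_ext_freeP hF (u.op.lan.obj L.obj) q)
    (pushEquiv K u L.obj _ f) ((pushEquiv_comp K u L.obj f _).symm.trans ((congrArg _ hf).trans (pushEquiv_zero K u _ _)))
  refine ⟨(pushEquiv K u L.obj _).symm g, (pushEquiv K u L.obj _).injective ?_⟩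
  refine (pushEquiv_comp K u L.obj _ _).trans ?_
  rw [Equiv.apply_symm_apply, hg]

theorem isTotallyAcyclic_push_of_flat [HasFiniteLimits D] [PreservesFiniteLimits u]
    {F : Sheaf J AddCommGrpCat.{u}} (hF : CohCx.IsTotallyAcyclic F) :
    CohCx.IsTotallyAcyclic ((CohSite.push J K u).obj F) := by
  haveI : RepresentablyFlat u := flat_of_preservesFiniteLimits u
  haveI : PreservesFiniteLimits (u.sheafPullback (Type u) K J) := by
    haveI : PreservesFiniteLimits (u.op.lan : (_ ⥤ Type u) ⥤ _) := lan_preservesFiniteLimits_of_flat _ u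
    exact Functor.sheafPullbackConstruction.preservesFiniteLimits _ _ _ _
  exact isTotallyAcyclic_push K u (fun I hI => @injective_push _ _ _ _ J K u _ _ I hI) hF

theorem injective_over (X : C) (I : Sheaf J AddCommGrpCat.{u}) [Injective I] :
    Injective (((Over.forget X).sheafPushforwardContinuous AddCommGrpCat.{u} (J.over X) J).obj I) := by
  haveI : (OverExtend.KInjective.extend J X).PreservesMonomorphisms := ⟨fun f _ => by
    haveI : Mono ((OverExtend.KInjective.extendPre X).map ((sheafToPresheaf (J.over X) AddCommGrpCat.{u}).map f)) :=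
      (OverExtend.KInjective.extendPre_preservesMonomorphisms X).preserves _
    exact (presheafToSheaf J AddCommGrpCat.{u}).map_mono
      ((OverExtend.KInjective.extendPre X).map ((sheafToPresheaf (J.over X) AddCommGrpCat.{u}).map f))⟩
  exact Injective.injective_of_adjoint (OverExtend.KInjective.extendAdj J X) I

theorem isTotallyAcyclic_over (X : C) {F : Sheaf J AddCommGrpCat.{u}} (hF : CohCx.IsTotallyAcyclic F) :
    CohCx.IsTotallyAcyclic (((Over.forget X).sheafPushforwardContinuous AddCommGrpCat.{u} (J.over X) J).obj F) :=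
  isTotallyAcyclic_push (J.over X) (Over.forget X) (fun I hI => @injective_over _ _ _ X I hI) hF

end Groth.Agent.Lead.SiteCoh
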