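import Groth.Agent.S6161
import Groth.Agent.Lead.SiteCoh.TA
import Groth.Agent.Lead.SiteCoh.Acyclic

/-!
The Čech complex of an epimorphism of sheaves of sets.
-/

set_option autoImplicit false

open CategoryTheory Limits Opposite Abelian AlgebraicTopology Simplicial

universe u

namespace Groth.Agent.Lead.SiteCoh

variable {C : Type u} [SmallCategory C] {J : GrothendieckTopology C} {K' K : Sheaf J (Type u)} (f : K' ⟶ K)

/-- the free Čech resolution -/
noncomputable abbrev freeNerve : SimplicialObject.Augmented (Sheaf J AddCommGrpCat.{u}) :=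
  ((SimplicialObject.Augmented.whiskering _ _).obj (Sheaf.composeAndSheafify J AddCommGrpCat.free.{u})).obj
    (Arrow.mk f).augmentedCechNerve

/-- its chain complex -/
noncomputable abbrev freeCx : ChainComplex (Sheaf J AddCommGrpCat.{u}) ℕ :=
  (alternatingFaceMapComplex _).obj (SimplicialObject.Augmented.drop.obj (freeNerve f))

theorem d_apply (F : Sheaf J AddCommGrpCat.{u}) (n : ℕ) (a : (freeCx f).X n ⟶ F) :
    (CohCx.cechNerveCx F f).d n (n + 1) a = (freeCx f).d (n + 1) n ≫ a := by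
  rw [alternatingFaceMapComplex_obj_d]
  simp only [CohCx.cechNerveCx, alternatingCofaceMapComplex, AlternatingCofaceMapComplex.obj, CochainComplex.of_d,
    AlternatingCofaceMapComplex.objD, AlternatingFaceMapComplex.objD, Preadditive.sum_comp, Preadditive.zsmul_comp]
  let G := (Arrow.mk f).cechNerve.rightOp ⋙ CohCx.HK0Functor J F
  let φ : (G.obj ⦋n⦌ ⟶ G.obj ⦋n + 1⦌) →+ G.obj ⦋n + 1⦌ := AddMonoidHom.mk' (fun t => t a) (fun _ _ => rfl)
  refine (map_sum φ (fun i : Fin (n + 2) => (-1 : ℤ) ^ (i : ℕ) • CosimplicialObject.δ G i) _).trans ?_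
  exact Finset.sum_congr rfl fun i _ => map_zsmul φ _ (CosimplicialObject.δ G i)

theorem exists_d (F : Sheaf J AddCommGrpCat.{u}) [Epi f] (hv : ∀ P : Cᵒᵖ ⥤ Type u, Van (freeP (J := J) P) F)
    (n : ℕ) (a : (freeCx f).X (n + 1) ⟶ F) (ha : (freeCx f).d (n + 2) (n + 1) ≫ a = 0) :
    ∃ b, (freeCx f).d (n + 1) n ≫ b = a := by
  haveI : QuasiIso (AlternatingFaceMapComplex.ε.app (freeNerve f)) := Groth.Agent.S6161.result J f
  exact exists_d_comp (AlternatingFaceMapComplex.ε.app (freeNerve f)) (fun n => hv _) (hv _) n a ha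

theorem isZero_homology_succ_iff (F : Sheaf J AddCommGrpCat.{u}) (q : ℕ) :
    IsZero ((CohCx.cechNerveCx F f).homology (q + 1)) ↔
      ∀ a : (freeCx f).X (q + 1) ⟶ F, (freeCx f).d (q + 2) (q + 1) ≫ a = 0 →
        ∃ b, (freeCx f).d (q + 1) q ≫ b = a := by
  rw [← HomologicalComplex.exactAt_iff_isZero_homology,
    HomologicalComplex.exactAt_iff' _ q (q + 1) (q + 2) (by simp) (by simp), ShortComplex.ab_exact_iff]
  refine ⟨fun h a ha => ?_, fun h a ha => ?_⟩
  · obtain ⟨b, hb⟩ := h a ((d_apply f F (q + 1) a).trans ha)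
    exact ⟨b, (d_apply f F q b).symm.trans hb⟩
  · obtain ⟨b, hb⟩ := h a ((d_apply f F (q + 1) a).symm.trans ha)
    exact ⟨b, (d_apply f F q b).trans hb⟩

theorem isZero_homology_of_isTotallyAcyclic (F : Sheaf J AddCommGrpCat.{u}) (hF : CohCx.IsTotallyAcyclic F) [Epi f]
    (q : ℕ) : IsZero ((CohCx.cechNerveCx F f).homology (q + 1)) :=
  (isZero_homology_succ_iff f F q).2 (exists_d f F (fun P n => subsingleton_ext_freeP hF P n) q)

end Groth.Agent.Lead.SiteCoh
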