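import Groth.Agent.Lead.SiteCoh.EdgeSheaf
import Groth.Prelude.Def_CohTop

/-!
Čech cohomology on a topological space as Čech cohomology on its site of opens.
-/

set_option autoImplicit false

open CategoryTheory Limits Opposite TopologicalSpace

universe u

namespace Groth.Agent.Lead.SiteCoh.OpensCech

variable {X : TopCat.{u}} {V : Opens X} {ι : Type u} (Y : ι → Over V)

theorem prod_left_eq_iInf {n : ℕ} (a : Fin (n + 1) → ι) : (∏ᶜ fun k => Y (a k)).left = ⨅ k, (Y (a k)).left := by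
  refine le_antisymm (le_iInf fun k => leOfHom (Pi.π (fun k => Y (a k)) k).left) ?_
  let W : Opens X := ⨅ k, (Y (a k)).left
  have h : W ≤ V := (iInf_le _ 0).trans (leOfHom (Y (a 0)).hom)
  exact leOfHom (Pi.lift fun k => (Over.homMk (homOfLE (iInf_le _ k)) : Over.mk (homOfLE h) ⟶ Y (a k))).left

theorem prod_left_eq {n : ℕ} (a : Fin (n + 1) → ι) :
    (∏ᶜ fun k => Y (a k)).left = ∏ᶜ fun k => (Y (a k)).left :=
  le_antisymm (leOfHom (Pi.lift fun k => (Pi.π (fun k => Y (a k)) k).left))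
    ((le_iInf fun k => leOfHom (Pi.π (fun k => (Y (a k)).left) k)).trans (prod_left_eq_iInf Y a).ge)

variable (P : (Opens X)ᵒᵖ ⥤ AddCommGrpCat.{u})

/-- the cosimplicial objects agree -/
noncomputable def cosimplicialIso :
    (FormalCoproduct.cosimplicialObjectFunctor (FormalCoproduct.mk _ Y).cech).obj ((Over.forget V).op ⋙ P) ≅
      (FormalCoproduct.cosimplicialObjectFunctor (FormalCoproduct.mk _ fun i => (Y i).left).cech).obj P :=
  NatIso.ofComponents
    (fun n => Limits.Pi.mapIso fun a : Fin (n.len + 1) → ι => P.mapIso (eqToIso (prod_left_eq Y a).symm).op)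
    (fun {m n} θ => by
      refine Pi.hom_ext _ _ fun a => ?_
      ext w
      let G₁ := (FormalCoproduct.cosimplicialObjectFunctor (FormalCoproduct.mk _ Y).cech).obj ((Over.forget V).op ⋙ P)
      have e1 : ∀ (k : SimplexCategory) (v : G₁.obj k) (b : Fin (k.len + 1) → ι),
          Pi.π (fun b : Fin (k.len + 1) → ι => P.obj (op (∏ᶜ fun j => (Y (b j)).left))) b
              ((Limits.Pi.mapIso fun b : Fin (k.len + 1) → ι => P.mapIso (eqToIso (prod_left_eq Y b).symm).op).hom v) =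
            P.map (eqToHom (prod_left_eq Y b).symm).op
              (Pi.π (fun b : Fin (k.len + 1) → ι => P.obj (op (∏ᶜ fun j => Y (b j)).left)) b v) := fun k v b =>
        congrArg (fun f : G₁.obj k ⟶ _ => f v)
          (Pi.map_π (fun b : Fin (k.len + 1) → ι => (P.mapIso (eqToIso (prod_left_eq Y b).symm).op).hom) b)
      have hm : ∀ (v : G₁.obj m), Pi.π (fun b : Fin (n.len + 1) → ι => P.obj (op (∏ᶜ fun j => Y (b j)).left)) a (G₁.map θ v) =
          P.map _ (Pi.π (fun b : Fin (m.len + 1) → ι => P.obj (op (∏ᶜ fun j => Y (b j)).left))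
            (((FormalCoproduct.mk _ Y).cech.map θ.op).f a) v) := fun v =>
        congrArg (fun f : G₁.obj m ⟶ _ => f v) (Pi.lift_π _ a)
      let G₂ := (FormalCoproduct.cosimplicialObjectFunctor (FormalCoproduct.mk _ fun i => (Y i).left).cech).obj P
      refine (e1 n _ a).trans ((congrArg _ (hm w)).trans ?_)
      have hm₂ : ∀ (v : G₂.obj m), Pi.π (fun b : Fin (n.len + 1) → ι => P.obj (op (∏ᶜ fun j => (Y (b j)).left))) a (G₂.map θ v) =
          P.map _ (Pi.π (fun b : Fin (m.len + 1) → ι => P.obj (op (∏ᶜ fun j => (Y (b j)).left)))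
            (((FormalCoproduct.mk _ fun i => (Y i).left).cech.map θ.op).f a) v) := fun v =>
        congrArg (fun f : G₂.obj m ⟶ _ => f v) (Pi.lift_π _ a)
      refine Eq.trans ?_ (hm₂ _).symm
      refine Eq.trans ?_ (congrArg _ (e1 m w _)).symm
      have two : ∀ {A B B' D : (Opens X)ᵒᵖ} (f : A ⟶ B) (g : B ⟶ D) (f' : A ⟶ B') (g' : B' ⟶ D) (z : P.obj A),
          P.map g (P.map f z) = P.map g' (P.map f' z) := fun f g f' g' z => by
        rw [← ConcreteCategory.comp_apply, ← P.map_comp, ← ConcreteCategory.comp_apply, ← P.map_comp]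
        exact congrArg (fun h => P.map h z) (Quiver.Hom.unop_inj (Subsingleton.elim _ _))
      exact two _ _ _ _ _)

/-- Čech cohomology over `V` is Čech cohomology of the family of opens -/
noncomputable def cechHIso (p : ℕ) : CohCx.cechH P Y p ≅ CohTop.cechH P (fun i => (Y i).left) p :=
  (HomologicalComplex.homologyFunctor AddCommGrpCat.{u} (ComplexShape.up ℕ) p).mapIso
    ((AlgebraicTopology.alternatingCofaceMapComplex AddCommGrpCat.{u}).mapIso (cosimplicialIso Y P))

theorem isZero_iff (p : ℕ) : IsZero (CohCx.cechH P Y p) ↔ IsZero (CohTop.cechH P (fun i => (Y i).left) p) :=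
  (cechHIso Y P p).isZero_iff

/-- the family of opens as objects over an open containing them -/
def fam {ι : Type u} (U : ι → Opens X) (W : Opens X) (h : ∀ i, U i ≤ W) : ι → Over W :=
  fun i => Over.mk (homOfLE (h i))

theorem mem_of_iSup_eq {ι : Type u} (Y : ι → Over V) (h : iSup (fun i => (Y i).left) = V) :
    Sieve.ofArrows (fun i => (Y i).left) (fun i => (Y i).hom) ∈ Opens.grothendieckTopology X V := by
  intro x hx
  rw [← h, Opens.mem_iSup] at hx
  obtain ⟨i, hi⟩ := hx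
  exact ⟨(Y i).left, (Y i).hom, ⟨(Y i).left, 𝟙 _, (Y i).hom, ⟨i⟩, Category.id_comp _⟩, hi⟩

theorem exists_family {T : Sieve V} (hT : T ∈ Opens.grothendieckTopology X V) :
    ∃ (ι : Type u) (W : ι → Opens X), iSup W = V ∧ ∀ i, ∃ h : W i ≤ V, T.arrows (homOfLE h) := by
  refine ⟨{W : Opens X // ∃ h : W ≤ V, T.arrows (homOfLE h)}, fun W => W.1, ?_, fun W => W.2⟩
  refine le_antisymm (iSup_le fun W => W.2.1) fun x hx => Opens.mem_iSup.2 ?_
  obtain ⟨W, f, hf, hxW⟩ := hT x hx
  exact ⟨⟨W, leOfHom f, hf⟩, hxW⟩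

end Groth.Agent.Lead.SiteCoh.OpensCech

namespace Groth.Agent.Lead.SiteCoh.OpensCech

variable {X : TopCat.{u}}

/-- acyclic families compute cohomology of the union -/
theorem nonempty_equiv (F : CohTop.Ab X) {ι : Type u} (U : ι → Opens X)
    (h : ∀ (p : ℕ) (a : Fin (p + 1) → ι) (q : ℕ), Subsingleton (CohTop.HU F (q + 1) (iInf fun k => U (a k))))
    (p : ℕ) : Nonempty (CohTop.cechH F.obj U p ≃+ CohTop.HU F p (iSup U)) := by
  let Y := fam U (iSup U) (le_iSup U)
  obtain ⟨e, he⟩ := Cech.exists_isEdge (Opens.grothendieckTopology X) Y (mem_of_iSup_eq Y rfl)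
  have hb := Cech.bijective_of_acyclicOn he p F fun m a q => by
    rw [prod_left_eq_iInf]; exact h m a q
  exact ⟨((cechHIso Y F.obj p).symm.addCommGroupIsoToAddEquiv).trans (AddEquiv.ofBijective _ hb)⟩

/-- Cartan's criterion for a basis -/
theorem subsingleton_HU_of_cechAcyclic (F : CohTop.Ab X) (B : Set (Opens X)) (Cov : ∀ (ι : Type u), (ι → Opens X) → Prop)
    (h1 : ∀ (ι : Type u) (V : ι → Opens X), Cov ι V →
      iSup V ∈ B ∧ ∀ (p : ℕ) (a : Fin (p + 1) → ι), (iInf fun k => V (a k)) ∈ B)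
    (h2 : ∀ U ∈ B, ∀ (κ : Type u) (W : κ → Opens X), iSup W = U →
      ∃ (ι : Type u) (V : ι → Opens X), Cov ι V ∧ iSup V = U ∧ ∀ i, ∃ k, V i ≤ W k)
    (h3 : ∀ (ι : Type u) (V : ι → Opens X), Cov ι V → ∀ p : ℕ, IsZero (CohTop.cechH F.obj V (p + 1)))
    (U : Opens X) (hU : U ∈ B) (p : ℕ) : Subsingleton (CohTop.HU F (p + 1) U) := by
  refine Cech.subsingleton_HU_of_cechAcyclic B
    (fun W ι Y => Cov ι (fun i => (Y i).left) ∧ iSup (fun i => (Y i).left) = W) ?_ ?_ p F ?_ U hU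
  · rintro W ι Y ⟨hc, hs⟩
    refine ⟨hs ▸ (h1 ι _ hc).1, mem_of_iSup_eq Y hs, fun m a => ?_⟩
    rw [prod_left_eq_iInf]; exact (h1 ι _ hc).2 m a
  · intro W hW T hT
    obtain ⟨κ, V, hs, hV⟩ := exists_family hT
    obtain ⟨ι, V', hc, hs', hr⟩ := h2 W hW κ V hs
    refine ⟨ι, fam V' W (hs' ▸ le_iSup V'), ⟨hc, hs'⟩, fun i => ?_⟩
    obtain ⟨k, hk⟩ := hr i
    obtain ⟨h, hT'⟩ := hV k
    exact (Subsingleton.elim (homOfLE hk ≫ homOfLE h) (fam V' W (hs' ▸ le_iSup V') i).hom) ▸ T.downward_closed hT' (homOfLE hk)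
  · rintro W ι Y ⟨hc, -⟩ q
    exact (isZero_iff Y F.obj _).2 (h3 ι _ hc q)

/-- sections lift if first Čech cohomology of the kernel vanishes on fine enough coverings -/
theorem surjective_of_cech (S : ShortComplex (CohTop.Ab X)) (hS : S.ShortExact) (U : Opens X)
    (h : ∀ (ι : Type u) (V : ι → Opens X), iSup V = U →
      ∃ (κ : Type u) (W : κ → Opens X) (r : κ → ι), iSup W = U ∧ (∀ k, W k ≤ V (r k)) ∧
        IsZero (CohTop.cechH S.X₁.obj W 1)) :
    Function.Surjective (S.g.hom.app (op U)) :=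
  Cech.surjective_of_cech hS fun T hT => by
    obtain ⟨κ, V, hs, hV⟩ := exists_family hT
    obtain ⟨ι, W, r, hs', hr, hz⟩ := h κ V hs
    refine ⟨ι, fam W U (hs' ▸ le_iSup W), fun i => ?_, mem_of_iSup_eq _ hs', (isZero_iff _ _ _).2 hz⟩
    obtain ⟨h', hT'⟩ := hV (r i)
    exact (Subsingleton.elim (homOfLE (hr i) ≫ homOfLE h') (fam W U (hs' ▸ le_iSup W) i).hom) ▸
      T.downward_closed hT' (homOfLE (hr i))

end Groth.Agent.Lead.SiteCoh.OpensCech
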