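import Groth.Agent.SpecSeq.Grothendieck
import Groth.Agent.SpecSeq.Sections
import Groth.Agent.Lead.SiteCoh.Derived
import Groth.Agent.Lead.SiteCoh.Sieve
import Groth.Agent.Lead.SiteCoh.TA
import Groth.Agent.Lead.SiteCoh.CechSieve

/-!
The spectral sequence from presheaf cohomology to sheaf cohomology.
-/

set_option autoImplicit false

open CategoryTheory Limits Opposite Abelian
open scoped ZeroObject

universe u

namespace Groth.Agent.Lead.SiteCoh.PreshSS

variable {C : Type u} [SmallCategory C] {J : GrothendieckTopology C}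

instance : (sheafToPresheaf (⊥ : GrothendieckTopology C) AddCommGrpCat.{u}).IsEquivalence :=
  { essSurj := ⟨fun P => ⟨⟨P, Presheaf.isSheaf_bot P⟩, ⟨Iso.refl _⟩⟩⟩ }

/-- `R^q` of the inclusion of sheaves into presheaves is the cohomology presheaf -/
theorem nonempty_rightDerived_toBot (M : Sheaf J AddCommGrpCat.{u}) (q : ℕ) :
    Nonempty (((toBot J).rightDerived q).obj M ≅
      (⟨M.cohomologyPresheaf q, Presheaf.isSheaf_bot _⟩ : Sheaf (⊥ : GrothendieckTopology C) AddCommGrpCat.{u})) := by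
  let R := injectiveResolution M
  let Φ := sheafToPresheaf (⊥ : GrothendieckTopology C) AddCommGrpCat.{u}
  let K := ((toBot J).mapHomologicalComplex (ComplexShape.up ℕ)).obj R.cocomplex
  haveI : Φ.PreservesHomology := inferInstance
  obtain ⟨e⟩ := Derived.nonempty_homology_iso R q
  exact ⟨R.isoRightDerivedObj (toBot J) q ≪≫ Φ.preimageIso (((K.sc q).mapHomologyIso Φ).symm ≪≫ e)⟩

variable (R : Cᵒᵖ ⥤ Type u)

/-- maps out of the free presheaf, into the presheaf of a sheaf -/
noncomputable def compIso : preadditiveCoyoneda.obj (op (freeP (J := J) R)) ≅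
    toBot J ⋙ preadditiveCoyoneda.obj (op (freeP (J := (⊥ : GrothendieckTopology C)) R)) :=
  let b : ∀ G : Sheaf J AddCommGrpCat.{u},
      (freeP (J := J) R ⟶ G) ≃ (freeP (J := (⊥ : GrothendieckTopology C)) R ⟶ (toBot J).obj G) := fun G =>
    (setEquiv R G).trans (botEquiv R G).symm
  have hb : ∀ (G G' : Sheaf J AddCommGrpCat.{u}) (φ : G ⟶ G') (f : freeP (J := J) R ⟶ G),
      b G' (f ≫ φ) = b G f ≫ (toBot J).map φ := fun G G' φ f => (botEquiv R G').injective (by
    rw [botEquiv_comp]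
    simp only [b, Equiv.trans_apply, Equiv.apply_symm_apply]
    exact setEquiv_comp R f φ)
  NatIso.ofComponents
    (fun G => (AddEquiv.mk' (b G) (fun f g => by
      have hA : ∀ φ : freeP (J := J) R ⟶ G, b G φ = b _ (𝟙 _) ≫ (toBot J).map φ := fun φ => by
        rw [← hb, Category.id_comp]
      rw [hA, hA f, hA g, Functor.map_add, Preadditive.comp_add])).toAddCommGrpIso)
    (fun φ => by
      ext f
      exact hb _ _ φ f)

theorem exists_spectralSequence (M : Sheaf J AddCommGrpCat.{u}) (H : ℕ → AddCommGrpCat.{u})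
    (E₂ : ℕ → ℕ → AddCommGrpCat.{u})
    (hH : ∀ n, Nonempty (AddCommGrpCat.of (Ext (freeP (J := J) R) M n) ≅ H n))
    (hE : ∀ p q, Nonempty (AddCommGrpCat.of (Ext (freeP (J := (⊥ : GrothendieckTopology C)) R)
      (⟨M.cohomologyPresheaf q, Presheaf.isSheaf_bot _⟩ : Sheaf (⊥ : GrothendieckTopology C) AddCommGrpCat.{u}) p) ≅ E₂ p q)) :
    ∃ (E : E₂CohomologicalSpectralSequence AddCommGrpCat.{u})
      (a : SpSeq.Abutment E (fun n : ℤ =>
        if 0 ≤ n then H n.toNat else AddCommGrpCat.of PUnit.{u + 1})),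
      (∀ n, a.IsFinite n) ∧ SpSeq.IsBounded E ∧
      ∀ p q : ℤ, Nonempty ((E.page 2 le_rfl).X (p, q) ≅
        (if 0 ≤ p ∧ 0 ≤ q then E₂ p.toNat q.toNat else AddCommGrpCat.of PUnit.{u + 1})) := by
  letI := HasDerivedCategory.standard (Sheaf J AddCommGrpCat.{u})
  letI := HasDerivedCategory.standard (Sheaf (⊥ : GrothendieckTopology C) AddCommGrpCat.{u})
  letI := HasDerivedCategory.standard AddCommGrpCat.{u}
  have hz : IsZero (AddCommGrpCat.of PUnit.{u + 1}) := AddCommGrpCat.isZero_of_subsingleton _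
  let S := preadditiveCoyoneda.obj (op (freeP (J := (⊥ : GrothendieckTopology C)) R))
  haveI : PreservesFiniteLimits S := inferInstance
  have hT : ∀ Q : Sheaf J AddCommGrpCat.{u}, Injective Q → RFPlus.Acyc S ((toBot J).obj Q) := fun Q hQ =>
    haveI := injective_toBot J Q
    RFPlus.Acyc.of_injective S _
  obtain ⟨E, a, h1, h2, h3⟩ := SpecSeq.exists_grothendieck (toBot J) S hT M
  have e : ∀ n : ℤ, Nonempty ((if 0 ≤ n then ((toBot J ⋙ S).rightDerived n.toNat).obj M else 0) ≅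
      (if 0 ≤ n then H n.toNat else AddCommGrpCat.of PUnit.{u + 1})) := fun n => by
    by_cases h : 0 ≤ n
    · rw [if_pos h, if_pos h]
      obtain ⟨i⟩ := SpecSeq.nonempty_ext_iso_rightDerived (freeP (J := J) R) M n.toNat
      obtain ⟨j⟩ := hH n.toNat
      let I := injectiveResolution M
      exact ⟨I.isoRightDerivedObj _ n.toNat ≪≫ (HomologicalComplex.homologyFunctor _ _ n.toNat).mapIso
        ((NatIso.mapHomologicalComplex (compIso R).symm _).app _) ≪≫ (I.isoRightDerivedObj _ n.toNat).symm ≪≫ i.symm ≪≫ j⟩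
    · rw [if_neg h, if_neg h]
      exact ⟨(isZero_zero _).iso hz⟩
  refine ⟨E, SpecSeq.transportAbutment a (fun n => (e n).some),
    fun n => SpecSeq.isFinite_transportAbutment a _ n (h1 n), h2, fun p q => ?_⟩
  obtain ⟨e3⟩ := h3 p q
  by_cases h : 0 ≤ p ∧ 0 ≤ q
  · rw [if_pos h]
    obtain ⟨k⟩ := nonempty_rightDerived_toBot M q.toNat
    obtain ⟨i⟩ := SpecSeq.nonempty_ext_iso_rightDerived (freeP (J := (⊥ : GrothendieckTopology C)) R)
      (⟨M.cohomologyPresheaf q.toNat, Presheaf.isSheaf_bot _⟩ : Sheaf (⊥ : GrothendieckTopology C) AddCommGrpCat.{u}) p.toNat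
    obtain ⟨j⟩ := hE p.toNat q.toNat
    exact ⟨e3 ≪≫ eqToIso (if_pos h) ≪≫ (S.rightDerived p.toNat).mapIso k ≪≫ i.symm ≪≫ j⟩
  · rw [if_neg h]
    exact ⟨e3 ≪≫ eqToIso (if_neg h) ≪≫ (isZero_zero _).iso hz⟩

end Groth.Agent.Lead.SiteCoh.PreshSS
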