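import Groth.Agent.Lead.SiteCoh.Edge

/-!
The comparison maps respect refinements.
-/

set_option autoImplicit false

open CategoryTheory Limits Opposite

universe u

namespace Groth.Agent.Lead.SiteCoh.Cech

variable {C : Type u} [SmallCategory C] [HasPullbacks C] {J : GrothendieckTopology C} {U : C} {ι κ : Type u}
  {Y : ι → Over U} {Y' : κ → Over U} (f : FormalCoproduct.mk ι Y ⟶ FormalCoproduct.mk κ Y')

/-- refinement of Čech complexes, natural in the presheaf -/
noncomputable def refineNat : CechEdge.cxFunctor Y' ⟶ CechEdge.cxFunctor Y :=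
  Functor.whiskerLeft ((Functor.whiskeringLeft (Over U)ᵒᵖ Cᵒᵖ AddCommGrpCat.{u}).obj (Over.forget U).op)
    (Functor.whiskerRight (Functor.whiskerLeft (FormalCoproduct.evalOp.{u} (Over U) AddCommGrpCat.{u})
      ((Functor.whiskeringLeft _ _ _).map (NatTrans.rightOp (FormalCoproduct.cechFunctor.map f))))
      (AlgebraicTopology.alternatingCofaceMapComplex AddCommGrpCat.{u}))

/-- refinement on Čech cohomology -/
noncomputable def refineH (P : Cᵒᵖ ⥤ AddCommGrpCat.{u}) (p : ℕ) : CohCx.cechH P Y' p →+ CohCx.cechH P Y p :=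
  (HomologicalComplex.homologyMap (CohCx.cechRefine P f) p).hom

theorem refineH_natural {P Q : Cᵒᵖ ⥤ AddCommGrpCat.{u}} (φ : P ⟶ Q) (p : ℕ) (x : CohCx.cechH P Y' p) :
    refineH f Q p (CechEdge.cechHMap Y' φ p x) = CechEdge.cechHMap Y φ p (refineH f P p x) :=
  congrArg (fun g : CohCx.cechH P Y' p ⟶ CohCx.cechH Q Y p => g x)
    (show HomologicalComplex.homologyMap ((CechEdge.cxFunctor Y').map φ) p ≫
        HomologicalComplex.homologyMap ((refineNat f).app Q) p =
      HomologicalComplex.homologyMap ((refineNat f).app P) p ≫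
        HomologicalComplex.homologyMap ((CechEdge.cxFunctor Y).map φ) p by
      rw [← HomologicalComplex.homologyMap_comp, ← HomologicalComplex.homologyMap_comp, (refineNat f).naturality φ])

theorem refineH_δ {S : ShortComplex (Cᵒᵖ ⥤ AddCommGrpCat.{u})} (hS : S.ShortExact) (p : ℕ)
    (x : CohCx.cechH S.X₃ Y' p) :
    refineH f S.X₁ (p + 1) ((shortExact_cxP Y' hS).δ p (p + 1) rfl x) =
      (shortExact_cxP Y hS).δ p (p + 1) rfl (refineH f S.X₃ p x) :=
  congrArg (fun g : CohCx.cechH S.X₃ Y' p ⟶ CohCx.cechH S.X₁ Y (p + 1) => g x)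
    (HomologicalComplex.HomologySequence.δ_naturality (S.mapNatTrans (refineNat f))
      (shortExact_cxP Y' hS) (shortExact_cxP Y hS) p (p + 1) rfl)

theorem refineH_toCech (P : Cᵒᵖ ⥤ AddCommGrpCat.{u}) (s : P.obj (op U)) :
    refineH f P 0 (CechEdge.toCech Y' P s) = CechEdge.toCech Y P s := by
  let R := CohCx.cechRefine P f
  have e : CechEdge.toCycles P Y' ≫ HomologicalComplex.cyclesMap R 0 = CechEdge.toCycles P Y := by
    refine (cancel_mono ((CechEdge.cx P Y).iCycles 0)).1 ?_
    refine (Category.assoc _ _ _).trans ((congrArg (CechEdge.toCycles P Y' ≫ ·)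
      (HomologicalComplex.cyclesMap_i R 0)).trans ?_)
    refine (Category.assoc _ _ _).symm.trans ((congrArg (· ≫ R.f 0) (CechEdge.toCycles_i P Y')).trans ?_)
    refine Eq.trans ?_ (CechEdge.toCycles_i P Y).symm
    ext s
    refine ext_proj _ fun a => ?_
    refine Eq.trans ?_ (proj_toCech₀ Y P a s).symm
    have h0 : proj Y P a (R.f 0 (CechEdge.toCech₀ P Y' s)) =
        P.map _ (proj Y' P (((FormalCoproduct.cechFunctor.map f).app (op (SimplexCategory.mk 0))).f a) (CechEdge.toCech₀ P Y' s)) :=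
      congrArg (fun g : (CechEdge.cx P Y').X 0 ⟶ _ => g (CechEdge.toCech₀ P Y' s)) (Pi.lift_π _ a)
    refine h0.trans ?_
    refine (congrArg _ (proj_toCech₀ Y' P _ s)).trans ?_
    rw [← ConcreteCategory.comp_apply, ← P.map_comp]
    exact congrArg (fun g => P.map (Quiver.Hom.op g) s) (Over.w _)
  refine (congrArg (fun g : (CechEdge.cx P Y').cycles 0 ⟶ CohCx.cechH P Y 0 => g (CechEdge.toCycles P Y' s))
    (HomologicalComplex.homologyπ_naturality R 0)).trans ?_
  exact congrArg (fun g : P.obj (op U) ⟶ (CechEdge.cx P Y).cycles 0 => (CechEdge.cx P Y).homologyπ 0 (g s)) e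

theorem isEdge_comp_refine
    {e : ∀ (P : Cᵒᵖ ⥤ AddCommGrpCat.{u}) (p : ℕ), CohCx.cechH P Y p →+ CohSite.HU (CechEdge.shf J P) p U}
    (he : CechEdge.IsEdge J Y e) (hY' : Sieve.ofArrows (fun i => (Y' i).left) (fun i => (Y' i).hom) ∈ J U) :
    CechEdge.IsEdge J Y' (fun P p => (e P p).comp (refineH f P p)) where
  cover := hY'
  zero P s := (congrArg (e P 0) (refineH_toCech f P s)).trans (he.zero P s)
  natural P Q φ p x := (congrArg (e Q p) (refineH_natural f φ p x)).trans (he.natural P Q φ p _)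
  delta S hS hC p x := (congrArg (e S.X₁ (p + 1)) (refineH_δ f hS p x)).trans
    (he.delta S hS (shortExact_cxP Y hS) p _)

end Groth.Agent.Lead.SiteCoh.Cech
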