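import Groth.Agent.Lead.SiteCoh.Refine

/-!
Any two refinement maps induce the same map on Čech cohomology.
-/

set_option autoImplicit false

open CategoryTheory Limits Opposite

universe u

namespace Groth.Agent.Lead.SiteCoh.Cech

variable {C : Type u} [SmallCategory C] [HasPullbacks C] {U : C} {ι κ : Type u}
  {Y : ι → Over U} {Y' : κ → Over U}

theorem refineH_zero_eq (f g : FormalCoproduct.mk ι Y ⟶ FormalCoproduct.mk κ Y') (P : Cᵒᵖ ⥤ AddCommGrpCat.{u})
    (x : CohCx.cechH P Y' 0) : refineH f P 0 x = refineH g P 0 x := by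
  obtain ⟨z, rfl⟩ := ((ConcreteCategory.isIso_iff_bijective ((CechEdge.cx P Y').homologyπ 0)).1 inferInstance).2 x
  let c := (CechEdge.cx P Y').iCycles 0 z
  have hc : (CechEdge.cx P Y').d 0 1 c = 0 :=
    congrArg (fun h : (CechEdge.cx P Y').cycles 0 ⟶ _ => h z) ((CechEdge.cx P Y').iCycles_d 0 1)
  have e : ∀ h : FormalCoproduct.mk ι Y ⟶ FormalCoproduct.mk κ Y',
      refineH h P 0 ((CechEdge.cx P Y').homologyπ 0 z) =
        (CechEdge.cx P Y).homologyπ 0 (HomologicalComplex.cyclesMap (CohCx.cechRefine P h) 0 z) := fun h =>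
    congrArg (fun F : (CechEdge.cx P Y').cycles 0 ⟶ CohCx.cechH P Y 0 => F z)
      (HomologicalComplex.homologyπ_naturality (CohCx.cechRefine P h) 0)
  refine (e f).trans (Eq.trans ?_ (e g).symm)
  refine congrArg _ (iCycles_injective Y P ?_)
  have hi : ∀ h : FormalCoproduct.mk ι Y ⟶ FormalCoproduct.mk κ Y',
      (CechEdge.cx P Y).iCycles 0 (HomologicalComplex.cyclesMap (CohCx.cechRefine P h) 0 z) =
        (CohCx.cechRefine P h).f 0 c := fun h =>
    congrArg (fun F : (CechEdge.cx P Y').cycles 0 ⟶ (CechEdge.cx P Y).X 0 => F z)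
      (HomologicalComplex.cyclesMap_i (CohCx.cechRefine P h) 0)
  refine (hi f).trans (Eq.trans ?_ (hi g).symm)
  refine ext_proj _ fun a => ?_
  let W := (Z Y a).left
  let t : ∀ h : FormalCoproduct.mk ι Y ⟶ FormalCoproduct.mk κ Y', Σ k, W ⟶ (Y' k).left := fun h =>
    ⟨h.f (a 0), (Pi.π (fun j => Y (a j)) 0).left ≫ (h.φ (a 0)).left⟩
  have ht : ∀ h, (t h).2 ≫ (Y' (t h).1).hom = (Z Y a).hom := fun h =>
    (Category.assoc _ _ _).trans ((congrArg (_ ≫ ·) (Over.w (h.φ (a 0)))).trans (Over.w _))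
  have hp : ∀ h, proj Y P a ((CohCx.cechRefine P h).f 0 c) = ev P (fun _ => t h) (fun _ => rfl) c := fun h => by
    have h0 : proj Y P a ((CohCx.cechRefine P h).f 0 c) =
        P.map (((FormalCoproduct.cechFunctor.map h).app (op (SimplexCategory.mk 0))).φ a).left.op
          (proj Y' P (((FormalCoproduct.cechFunctor.map h).app (op (SimplexCategory.mk 0))).f a) c) :=
      congrArg (fun F : (CechEdge.cx P Y').X 0 ⟶ _ => F c) (Pi.lift_π _ a)
    refine h0.trans ?_
    rw [← ev_univ]
    refine (congrArg (fun F : _ ⟶ P.obj (op W) => F c) (map_ev P _ (comp_Z _ _) _)).trans ?_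
    refine congrArg (fun F : _ ⟶ P.obj (op W) => F c) (ev_congr _ _ (funext fun j => ?_))
    obtain rfl : j = 0 := Fin.fin_one_eq_zero j
    refine Sigma.ext rfl (heq_of_eq ?_)
    refine (congrArg (_ ≫ ·) (Category.id_comp _)).trans ?_
    exact congrArg CommaMorphism.left (Pi.map_π (fun k => h.φ (a k)) 0)
  rw [hp, hp]
  let p : Tup Y' W 1 := Fin.cons (t f) (fun _ => t g)
  have hcp : Comp p := fun j => by
    refine Fin.cases rfl (fun k => ?_) j
    exact (ht g).trans (ht f).symm
  have := ev_d' P c p hcp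
  rw [hc, map_zero, Fin.sum_univ_two] at this
  simp only [Fin.val_zero, Fin.val_one, pow_zero, pow_one, one_smul, neg_smul] at this
  rw [ev_congr _ _ (show del 0 p = fun _ => t g from funext fun k => by fin_cases k; rfl),
    ev_congr _ _ (show del 1 p = fun _ => t f from funext fun k => by fin_cases k; rfl)] at this
  exact (eq_of_sub_eq_zero (by rw [sub_eq_add_neg]; exact this.symm)).symm

theorem refineH_eq (f g : FormalCoproduct.mk ι Y ⟶ FormalCoproduct.mk κ Y') :
    ∀ (p : ℕ) (P : Cᵒᵖ ⥤ AddCommGrpCat.{u}) (x : CohCx.cechH P Y' p), refineH f P p x = refineH g P p x := by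
  intro p
  induction p with
  | zero => exact refineH_zero_eq f g
  | succ p ih =>
    intro P x
    have hS := shortExact_coneS (𝟙 P)
    obtain ⟨y, rfl⟩ := δ_coneS_surjective Y' (𝟙 P) p x
    exact (refineH_δ f hS p y).trans ((congrArg _ (ih _ y)).trans (refineH_δ g hS p y).symm)

end Groth.Agent.Lead.SiteCoh.Cech
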