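import Groth.Agent.Lead.SiteCoh.TA

/-!
Sections of a totally acyclic sheaf extend along monomorphisms of sheaves of sets.
-/

set_option autoImplicit false

open CategoryTheory Limits Opposite Abelian

universe u

namespace Groth.Agent.Lead.SiteCoh

variable {C : Type u} [SmallCategory C] {J : GrothendieckTopology C}

theorem mono_freePMap {P Q : Cᵒᵖ ⥤ Type u} (α : P ⟶ Q) [Mono α] : Mono (freePMap (J := J) α) := by
  haveI : ∀ W, Mono ((Functor.whiskerRight α AddCommGrpCat.free.{u}).app W) := fun W => by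
    haveI : Mono (α.app W) := inferInstance
    show Mono (AddCommGrpCat.free.map (α.app W))
    infer_instance
  haveI : Mono (Functor.whiskerRight α AddCommGrpCat.free.{u}) := NatTrans.mono_of_mono_app _
  exact Functor.map_mono (presheafToSheaf J AddCommGrpCat.{u}) _

theorem freePMap_comp {P Q R : Cᵒᵖ ⥤ Type u} (α : P ⟶ Q) (β : Q ⟶ R) :
    freePMap (J := J) (α ≫ β) = freePMap α ≫ freePMap β := by
  rw [freePMap, Functor.whiskerRight_comp, Functor.map_comp]

theorem exists_extend {F : Sheaf J AddCommGrpCat.{u}} (hF : CohCx.IsTotallyAcyclic F) {Y X : Cᵒᵖ ⥤ Type u}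
    (ι : Y ⟶ X) [Mono ι] (f : freeP (J := J) Y ⟶ F) : ∃ g, freePMap ι ≫ g = f := by
  let i := freePMap (J := J) ι
  haveI : Mono i := mono_freePMap ι
  let S : ShortComplex (Sheaf J AddCommGrpCat.{u}) := ShortComplex.mk i (cokernel.π i) (cokernel.condition i)
  have hS : S.ShortExact :=
    ShortComplex.ShortExact.mk' (ShortComplex.exact_of_g_is_cokernel _ (cokernelIsCokernel i))
      (inferInstance : Mono i) (inferInstance : Epi (cokernel.π i))
  let P := pushout ι ι
  let iR : X ⟶ P := pushout.inr ι ι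
  let iL : X ⟶ P := pushout.inl ι ι
  let s : cokernel i ⟶ freeP P := cokernel.desc i (freePMap iR - freePMap iL) (by
    rw [Preadditive.comp_sub, sub_eq_zero, ← freePMap_comp, ← freePMap_comp, pushout.condition])
  let r : freeP P ⟶ cokernel i := (setEquiv P _).symm
    (pushout.desc (setEquiv X _ (0 : freeP X ⟶ cokernel i)) (setEquiv X _ (cokernel.π i)) (by
      exact (setEquiv_map ι _ _).symm.trans ((congrArg _ (comp_zero.trans (cokernel.condition i).symm)).trans (setEquiv_map ι _ _))))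
  have hr : freePMap iR ≫ r = cokernel.π i ∧ freePMap iL ≫ r = 0 := by
    constructor <;> apply (setEquiv X (cokernel i)).injective <;> erw [setEquiv_map, Equiv.apply_symm_apply]
    · exact pushout.inr_desc _ _ _
    · exact pushout.inl_desc _ _ _
  have hsr : s ≫ r = 𝟙 _ := by
    rw [← cancel_epi (cokernel.π i), cokernel.π_desc_assoc, Preadditive.sub_comp, hr.1, hr.2, sub_zero, Category.comp_id]
  have hx : hS.extClass.comp (Ext.mk₀ f) (add_zero 1) = 0 := by
    haveI := subsingleton_ext_freeP hF P 0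
    rw [← Ext.mk₀_id_comp (hS.extClass.comp (Ext.mk₀ f) (add_zero 1))]
    show (Ext.mk₀ (𝟙 (cokernel i))).comp _ _ = 0
    rw [← hsr, ← Ext.mk₀_comp_mk₀_assoc,
      Subsingleton.elim (α := Ext (freeP P) F 1) ((Ext.mk₀ r).comp _ (zero_add 1)) 0, Ext.comp_zero]
  obtain ⟨x₂, hx₂⟩ := Ext.contravariant_sequence_exact₁ hS F (Ext.mk₀ f) (by omega : 1 + 0 = 1) hx
  obtain ⟨g, rfl⟩ := Ext.homEquiv₀.symm.surjective x₂
  refine ⟨g, (Ext.mk₀_bijective _ F).1 ?_⟩
  rw [← Ext.mk₀_comp_mk₀]
  exact hx₂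

end Groth.Agent.Lead.SiteCoh
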